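import Cfsg.Agent.TwinComp.Exchange

/-!
If `z` normalizes the component of `C(t)` then `t` normalizes that of `C(z)`.
-/

set_option autoImplicit false
set_option linter.unusedSectionVars false
set_option linter.style.haveILetI false

namespace CfsgLib.TwinComp

open Subgroup

universe u

variable {G : Type u} [Group G] [Finite G] {J K : Subgroup G} {z t : G}
  (legJ : Leg (img J z) (mk z (zel z))) (legK : Leg (img K t) (mk t (zel t))) (hz : z * z = 1)
  (ht : t * t = 1) (hne : z ≠ t) (hc : Commute z t) (hcard : Nat.card (img J z) = Nat.card (img K t))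

include hcard in
theorem ctx_fixes (y : ↥(Cz z ⊓ Cz t)) (hy : (ctx legJ legK hz ht hne hc).g y ∈ img K t) (h2 : IsTwoElem y)
    (hsq : y * y ≠ 1) :
    (ctx legJ legK hz ht hne hc).f y ∈
      normalizer ((img J z : Subgroup _) : Set (↥(Cz z) ⧸ Cfsg.oddCore ↥(Cz z))) := by
  rcases (ctx legJ legK hz ht hne hc).fixes_or_exit hcard (linked legJ legK hz ht hne hc) hy h2 hsq with h | h
  · exact h
  · exact absurd h (no_exit legJ legK hz ht hne hc)

include hc in
/-- An exact element over an anti-fixed element. -/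
theorem exists_exact_anti (hz : z * z = 1) (ht : t * t = 1) {x : ↥(Cz t) ⧸ Cfsg.oddCore ↥(Cz t)}
    (hanti : mk t ⟨z, mem_Cz.2 hc⟩ * x * (mk t ⟨z, mem_Cz.2 hc⟩)⁻¹ = x * mk t (zel t)) :
    ∃ w : ↥(Cz t), mk t w = x ∧ (w : G) * z * (w : G)⁻¹ = z * t := by
  obtain ⟨b, rfl⟩ := QuotientGroup.mk'_surjective _ x
  let ζ : ↥(Cz t) := ⟨z, mem_Cz.2 hc⟩
  have htb : ∀ e : ↥(Cz t), Commute (zel t) e := fun e => Subtype.ext (mem_Cz.1 e.2).eq.symm
  have hζζ : ζ * ζ = 1 := Subtype.ext hz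
  have htt : zel t * zel t = 1 := Subtype.ext ht
  have hζt : ζ * zel t * (ζ * zel t) = 1 := by
    rw [← pow_two, (htb ζ).symm.mul_pow, pow_two, pow_two, hζζ, one_mul, htt]
  have e2 : mk t (b * ζ * b⁻¹) = mk t (ζ * zel t) := by
    have h' : mk t ζ * mk t b = mk t b * mk t (zel t) * mk t ζ := mul_inv_eq_iff_eq_mul.1 hanti
    have hz' : Commute (mk t (zel t)) (mk t ζ) := (htb ζ).map _
    have hzz' : mk t (zel t) * mk t (zel t) = 1 := by rw [← map_mul, htt, map_one]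
    rw [map_mul, map_mul, map_mul, map_inv, mul_inv_eq_iff_eq_mul, mul_assoc (mk t ζ),
      ((htb b).map (mk t)).eq, ← mul_assoc, h', mul_assoc (mk t b * _), ← hz'.eq, mul_assoc (mk t b),
      ← mul_assoc (mk t (zel t)), hzz', one_mul]
  obtain ⟨b', hb', hbz, -⟩ := exists_adjust odd_card_core hζζ hζt e2
  exact ⟨b', hb', congrArg Subtype.val hbz⟩

theorem img_cj (J : Subgroup G) {g s w : G} (h : g * s * g⁻¹ = w) :
    img (cj g J) w = (img J s).map (QuotientGroup.congr (Cfsg.oddCore ↥(Cz s)) (Cfsg.oddCore ↥(Cz w))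
      (czEquiv h) (map_oddCore _)).toMonoidHom := by
  ext v
  constructor
  · rintro ⟨a, ha, rfl⟩
    refine ⟨mk s ((czEquiv h).symm a), ⟨(czEquiv h).symm a, mem_cj.1 ha, rfl⟩, ?_⟩
    show mk w (czEquiv h ((czEquiv h).symm a)) = _
    rw [MulEquiv.apply_symm_apply]
  · rintro ⟨_, ⟨b, hb, rfl⟩, rfl⟩
    exact ⟨czEquiv h b, mem_cj.2 (by
      show g⁻¹ * (g * (b : G) * g⁻¹) * g ∈ J
      rw [show g⁻¹ * (g * (b : G) * g⁻¹) * g = (b : G) by group]
      exact hb), rfl⟩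

include legJ legK hz ht hne hcard in
/-- The exchange. -/
theorem exchange (hautA : 4 * Nat.card (MulAut ↥(img J z)) < Nat.card (img J z) * Nat.card (img J z))
    (hautB : 4 * Nat.card (MulAut ↥(img K t)) < Nat.card (img K t) * Nat.card (img K t))
    (hZ : mk t ⟨z, mem_Cz.2 hc⟩ ∈ normalizer ((img K t : Subgroup _) : Set (↥(Cz t) ⧸ Cfsg.oddCore ↥(Cz t)))) :
    mk z ⟨t, mem_Cz.2 hc.symm⟩ ∈ normalizer ((img J z : Subgroup _) : Set (↥(Cz z) ⧸ Cfsg.oddCore ↥(Cz z))) := by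
  by_contra hT
  set c := ctx legJ legK hz ht hne hc
  obtain ⟨x, hx, hxx, hanti, i, hi, hii, d, hdd, hfd, hgd⟩ := c.exists_central hcard hautB hT hZ
    (ctx_fixes legJ legK hz ht hne hc hcard) (fun x _ _ hxanti => by
      obtain ⟨b', hb', hbz⟩ := exists_exact_anti hc hz ht hxanti
      have hbt : (b' : G) * t * (b' : G)⁻¹ = t := by rw [(mem_Cz.1 b'.2).eq, mul_inv_cancel_right]
      have htz' : ∀ d, d ∈ Cz z ⊓ Cz t ↔ d ∈ Cz (z * t) ⊓ Cz t := fun d => by
        simp only [Subgroup.mem_inf, mem_Cz]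
        refine and_congr_left fun h => ⟨fun h' => h'.mul_right h, fun h' => ?_⟩
        have := h'.mul_right h
        rwa [mul_assoc, ht, mul_one] at this
      refine ⟨conjSub (b' : G) _ fun d => by
        rw [htz' ((b' : G) * d * (b' : G)⁻¹), Subgroup.mem_inf, Subgroup.mem_inf, ← conj_mem_Cz_iff hbz,
          ← conj_mem_Cz_iff hbt], fun d => ?_⟩
      show mk t ((czEquiv hbt) (Subgroup.inclusion inf_le_right d)) = _
      rw [← hb']
      show _ = mk t b' * mk t (Subgroup.inclusion inf_le_right d) * (mk t b')⁻¹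
      rw [← map_inv, ← map_mul, ← map_mul]
      exact congrArg (mk t) (Subtype.ext rfl))
  obtain ⟨w, hw, hwz⟩ := exists_exact_anti hc hz ht hanti
  have hT2 := c.ft_sq
  have hTi := c.ft_inv
  -- the involution `d z t`
  set d₀ : G := (d : G) with hd₀
  have hdd₀ : d₀ * d₀ = 1 := congrArg Subtype.val hdd
  have hdz : Commute d₀ z := mem_Cz.1 d.2.1
  have hdt : Commute d₀ t := mem_Cz.1 d.2.2
  let τ : ↥(Cz z) := ⟨t, mem_Cz.2 hc.symm⟩
  let d' : ↥(Cz z) := Subgroup.inclusion inf_le_left d * zel z * τ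
  have hza : ∀ e : ↥(Cz z), Commute (zel z) e := fun e => Subtype.ext (mem_Cz.1 e.2).eq.symm
  have hτd : Commute τ (Subgroup.inclusion inf_le_left d) := Subtype.ext hdt.eq.symm
  have hττ : τ * τ = 1 := Subtype.ext ht
  have hdzz : d₀ * z * (d₀ * z) = 1 := by rw [← pow_two, hdz.mul_pow, pow_two, pow_two, hdd₀, hz, one_mul]
  have hd'd' : d' * d' = 1 := Subtype.ext (by
    show d₀ * z * t * (d₀ * z * t) = 1
    rw [← pow_two, ((hdt.mul_left hc)).mul_pow, pow_two, pow_two, hdzz, ht, one_mul])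
  have hτd' : Commute τ d' := (hτd.mul_right (hza τ).symm).mul_right (Commute.refl τ)
  obtain ⟨a₀, rfl⟩ := QuotientGroup.mk'_surjective _ i
  have hfd' : mk z (Subgroup.inclusion inf_le_left d) =
      mk z a₀ * (c.f c.t * mk z a₀ * c.f c.t) := hfd
  have hTz : mk z a₀ * c.f c.t * (mk z a₀)⁻¹ = mk z a₀ * (c.f c.t * mk z a₀ * c.f c.t) * c.f c.z * c.f c.t := by
    have hinv : (mk z a₀)⁻¹ = mk z a₀ * c.f c.z :=
      inv_eq_iff_mul_eq_one.2 (by rw [← mul_assoc, hii, c.legA.sq])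
    rw [hinv, mul_assoc _ (c.f c.z) (c.f c.t), (c.legA.cen (c.f c.t)).eq]
    calc mk z a₀ * c.f c.t * (mk z a₀ * c.f c.z) = mk z a₀ * (c.f c.t * mk z a₀) * 1 * c.f c.z := by group
      _ = mk z a₀ * (c.f c.t * mk z a₀) * (c.f c.t * c.f c.t) * c.f c.z := by rw [hT2]
      _ = _ := by group
  have e1 : mk z (a₀ * τ * a₀⁻¹) = mk z d' := by
    rw [map_mul, map_mul, map_inv]
    show mk z a₀ * c.f c.t * (mk z a₀)⁻¹ = mk z (Subgroup.inclusion inf_le_left d * zel z * τ)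
    rw [map_mul, map_mul, hfd', hTz]
    rfl
  obtain ⟨a₁, ha₁, hat, -⟩ := exists_adjust odd_card_core hττ hd'd' e1
  have e2 : mk z (a₁ * d' * a₁⁻¹) = mk z τ := by
    have hcAT : Commute (mk z a₀) (c.f c.t * mk z a₀ * c.f c.t) := by
      have := c.legA.commute_of_moved (v := c.f c.t) hT hi hi
      rwa [hTi] at this
    have hδ : mk z a₀ * (c.f c.t * mk z a₀ * c.f c.t) * (mk z a₀ * (c.f c.t * mk z a₀ * c.f c.t)) = 1 := by
      rw [← hfd', ← map_mul, show Subgroup.inclusion inf_le_left d * Subgroup.inclusion inf_le_left d = 1 from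
        Subtype.ext hdd₀, map_one]
    rw [map_mul, map_mul, map_inv, ha₁]
    show mk z a₀ * mk z (Subgroup.inclusion inf_le_left d * zel z * τ) * (mk z a₀)⁻¹ = c.f c.t
    rw [map_mul, map_mul, hfd']
    show mk z a₀ * (mk z a₀ * (c.f c.t * mk z a₀ * c.f c.t) * c.f c.z * c.f c.t) * (mk z a₀)⁻¹ = c.f c.t
    obtain ⟨I, hI⟩ : ∃ I, I = mk z a₀ := ⟨_, rfl⟩
    rw [← hI] at hcAT hδ hTz ⊢
    obtain ⟨U, hU⟩ : ∃ U, U = I * (c.f c.t * I * c.f c.t) := ⟨_, rfl⟩
    rw [← hU] at hδ hTz ⊢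
    have hcIU : Commute I U := hU ▸ (Commute.refl I).mul_right hcAT
    calc I * (U * c.f c.z * c.f c.t) * I⁻¹ = (I * U) * c.f c.z * (c.f c.t * I⁻¹) := by group
      _ = U * (I * c.f c.z) * (c.f c.t * I⁻¹) := by rw [hcIU.eq]; group
      _ = U * c.f c.z * (I * c.f c.t * I⁻¹) := by rw [← (c.legA.cen I).eq]; group
      _ = U * (c.f c.z * U) * c.f c.z * c.f c.t := by rw [hTz]; group
      _ = (U * U) * (c.f c.z * c.f c.z) * c.f c.t := by rw [(c.legA.cen U).eq]; group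
      _ = c.f c.t := by rw [hδ, c.legA.sq, one_mul, one_mul]
  obtain ⟨a, ha, had, hcen⟩ := exists_adjust odd_card_core hd'd' hττ e2
  have hat' : a * τ * a⁻¹ = d' := by
    have hcomm : Commute (a * a₁⁻¹) d' := hcen d' (by
      conv => arg 2; rw [← hat]
      exact hτd'.symm.map (MulAut.conj a₁).toMonoidHom) hτd' (Commute.refl _)
    calc a * τ * a⁻¹ = (a * a₁⁻¹) * (a₁ * τ * a₁⁻¹) * (a * a₁⁻¹)⁻¹ := by group
      _ = d' := by rw [hat, hcomm.eq, mul_inv_cancel_right]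
  -- the conjugating element
  have hwt : (w : G) * t * (w : G)⁻¹ = t := by rw [(mem_Cz.1 w.2).eq, mul_inv_cancel_right]
  have haz : (a : G) * z * (a : G)⁻¹ = z := by rw [(mem_Cz.1 a.2).eq, mul_inv_cancel_right]
  have had' : (a : G) * (d₀ * z * t) * (a : G)⁻¹ = t := congrArg Subtype.val had
  have hat'' : (a : G) * t * (a : G)⁻¹ = d₀ * z * t := congrArg Subtype.val hat'
  have hg : ((a : G) * w) * z * ((a : G) * w)⁻¹ = t * d₀ := by
    calc ((a : G) * w) * z * ((a : G) * w)⁻¹ = (a : G) * ((w : G) * z * (w : G)⁻¹) * (a : G)⁻¹ := by group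
      _ = (a : G) * z * (a : G)⁻¹ * ((a : G) * t * (a : G)⁻¹) := by rw [hwz]; group
      _ = d₀ * (z * z) * t := by rw [haz, hat'', ← mul_assoc, ← mul_assoc, ← hdz.eq]; group
      _ = t * d₀ := by rw [hz, mul_one, hdt.eq]
  set z₂ : G := t * d₀
  set e := QuotientGroup.congr (Cfsg.oddCore ↥(Cz z)) (Cfsg.oddCore ↥(Cz z₂)) (czEquiv hg) (map_oddCore _)
  have hez : e (mk z (zel z)) = mk z₂ (zel z₂) := congrArg (mk z₂) (Subtype.ext hg)
  have himg := img_cj J hg
  have legJ₂ : Leg (img (cj ((a : G) * w) J) z₂) (mk z₂ (zel z₂)) := by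
    rw [himg, ← hez]; exact legJ.map_equiv e
  have hz₂ : z₂ * z₂ = 1 := by
    show t * d₀ * (t * d₀) = 1
    rw [← pow_two, hdt.symm.mul_pow, pow_two, pow_two, ht, hdd₀, one_mul]
  have hne₂ : z₂ ≠ t := fun h => by
    have hd1 : d₀ = 1 := mul_eq_left.1 h
    have h1 : c.f d = 1 := by rw [show d = 1 from Subtype.ext hd1, map_one]
    rw [hfd] at h1
    have hmem : mk z a₀ ∈ cj (c.f c.t) c.A := by
      rw [eq_inv_of_mul_eq_one_left h1, inv_mem_iff]
      have := conj_mem_cj (x := c.f c.t) hi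
      rwa [hTi] at this
    rcases c.legA.eq_of_mem_both hT hi hmem with r | r
    · exact (c.legA.ne_of_sq hii).1 r
    · exact (c.legA.ne_of_sq hii).2 r
  have hc₂ : Commute z₂ t := (Commute.refl t).mul_left hdt
  have hcard₂ : Nat.card (img (cj ((a : G) * w) J) z₂) = Nat.card (img K t) :=
    (Nat.card_congr ((e.subgroupMap (img J z)).trans (MulEquiv.subgroupCongr himg.symm)).toEquiv).symm.trans hcard
  set c₂ := ctx legJ₂ legK hz₂ ht hne₂ hc₂
  have hautA₂ : 4 * Nat.card (MulAut ↥c₂.A) < Nat.card c₂.A * Nat.card c₂.A := by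
    let E : ↥(img J z) ≃* ↥c₂.A := (e.subgroupMap (img J z)).trans (MulEquiv.subgroupCongr himg.symm)
    rw [← Nat.card_congr (MulAut.congr E).toEquiv, ← Nat.card_congr E.toEquiv]
    exact hautA
  have hcentB : ∀ b ∈ c₂.B, Commute (c₂.g c₂.z) b := fun b hb => by
    have he : c₂.g c₂.z = c.g c.t * c.g d := by rw [← map_mul]; exact congrArg (mk t) (Subtype.ext rfl)
    rw [he]
    exact (c.legB.cen b).mul_left (hgd b hb)
  have hcent := c₂.centralizes hcard₂ hautA₂ hcentB (ctx_fixes legJ₂ legK hz₂ ht hne₂ hc₂ hcard₂)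
  -- back to `C(z)`
  let d₂ : G := (w : G)⁻¹ * d₀ * w
  have hwzt : (w : G)⁻¹ * (z * t) * w = z := by rw [← hwz]; group
  have hwt' : (w : G)⁻¹ * t * w = t := by rw [mul_assoc, ← (mem_Cz.1 w.2).eq, inv_mul_cancel_left]
  have hd₂z : Commute d₂ z := by
    have := (hdz.mul_right hdt).map (MulAut.conj (w : G)⁻¹).toMonoidHom
    simp only [MulEquiv.coe_toMonoidHom, MulAut.conj_apply, inv_inv] at this
    rwa [hwzt] at this
  have hd₂t : Commute d₂ t := by
    have := hdt.map (MulAut.conj (w : G)⁻¹).toMonoidHom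
    simp only [MulEquiv.coe_toMonoidHom, MulAut.conj_apply, inv_inv] at this
    rwa [hwt'] at this
  let D₂ : ↥(Cz z ⊓ Cz t) := ⟨d₂, mem_Cz.2 hd₂z, mem_Cz.2 hd₂t⟩
  have hgD : c.g D₂ = c.g d := by
    have : c.g D₂ = (mk t w)⁻¹ * c.g d * mk t w := by
      show _ = (mk t w)⁻¹ * mk t (Subgroup.inclusion inf_le_right d) * mk t w
      rw [← map_inv, ← map_mul, ← map_mul]
      exact congrArg (mk t) (Subtype.ext rfl)
    rw [this, hw, mul_assoc, (hgd x hx).eq, inv_mul_cancel_left]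
  -- the element `w⁻¹ a⁻¹ t a w`
  have hpre : ((a : G) * w)⁻¹ * t * ((a : G) * w) = d₂ * z := by
    calc ((a : G) * w)⁻¹ * t * ((a : G) * w) = (w : G)⁻¹ * ((a : G)⁻¹ * t * a) * w := by group
      _ = (w : G)⁻¹ * ((a : G)⁻¹ * ((a : G) * (d₀ * z * t) * (a : G)⁻¹) * a) * w := by rw [had']
      _ = (w : G)⁻¹ * (d₀ * z * t) * w := by group
      _ = d₂ * ((w : G)⁻¹ * (z * t) * w) := by
          show _ = (w : G)⁻¹ * d₀ * w * _
          group
      _ = d₂ * z := by rw [hwzt]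
  have hcomA : ∀ v ∈ c.A, Commute (c.f D₂) v := by
    intro v hv
    have h1 := hcent (e v) (by
      show e v ∈ img (cj ((a : G) * w) J) z₂
      rw [himg]; exact ⟨v, hv, rfl⟩)
    have h2 : e (c.f D₂ * c.f c.z) = c₂.f c₂.t := by
      rw [← map_mul]
      show mk z₂ ((czEquiv hg) (Subgroup.inclusion inf_le_left (D₂ * c.z))) = _
      refine congrArg (mk z₂) (Subtype.ext ?_)
      show (a : G) * w * (d₂ * z) * ((a : G) * w)⁻¹ = t
      rw [← hpre]; group
    rw [← h2] at h1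
    have h3 : Commute (c.f D₂ * c.f c.z) v := Commute.of_map (f := e.toMonoidHom) e.injective h1
    have h4 := h3.mul_left (c.legA.cen v)
    rwa [mul_assoc, c.legA.sq, mul_one] at h4
  have hδN : c.f d ∈ normalizer (c.A : Set _) := by
    rw [hfd]
    refine mul_mem (le_normalizer hi) (Subgroup.mem_normalizer_fintype fun v hv => ?_)
    have := c.legA.commute_of_moved (v := c.f c.t) hT hv hi
    rw [hTi] at this
    rw [← this.eq, mul_inv_cancel_right]; exact hv
  have hD₂N : c.f D₂ ∈ normalizer (c.A : Set _) :=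
    centralizer_le_normalizer _ (mem_centralizer_iff.2 fun v hv => (hcomA v hv).eq.symm)
  let nd : ↥(normalizer (c.A : Set (↥(Cz z) ⧸ Cfsg.oddCore ↥(Cz z)))) := ⟨c.f d, hδN⟩
  let nD : ↥(normalizer (c.A : Set (↥(Cz z) ⧸ Cfsg.oddCore ↥(Cz z)))) := ⟨c.f D₂, hD₂N⟩
  have hone : act c.A nd = 1 := by
    refine eq_one_of_two_of_odd (IsTwoElem.map ⟨1, Subtype.ext ?_⟩ _) ?_
    · show (c.f d) ^ 2 ^ 1 = 1
      rw [pow_one, pow_two, ← map_mul, hdd, map_one]
    · have : act c.A nd = (act c.A (nd⁻¹ * nD))⁻¹ := by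
        rw [map_mul, map_inv, (act_eq_one (n := nD)).2 (fun v hv => hcomA v hv), mul_one, inv_inv]
      rw [this, orderOf_inv]
      refine Odd.of_dvd_nat ?_ (orderOf_map_dvd _ _)
      rw [← Subgroup.orderOf_coe]
      show Odd (orderOf ((c.f d)⁻¹ * c.f D₂))
      rw [← map_inv, ← map_mul]
      exact (odd_orderOf_of_mem c.kerg (MonoidHom.mem_ker.2 (by
        rw [map_mul, map_inv, hgD, inv_mul_cancel]))).of_dvd_nat (orderOf_map_dvd c.f _)
  obtain ⟨h1, h2⟩ := c.legA.ne_of_sq hii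
  have hcen0 : ∀ v ∈ c.A, Commute (mk z a₀) v := fun v hv => by
    have h3 : Commute (c.f d) v := act_eq_one.1 hone v hv
    rw [hfd] at h3
    have h4 : Commute v (c.f c.t * mk z a₀ * c.f c.t) := by
      have := c.legA.commute_of_moved (v := c.f c.t) hT hv hi
      rwa [hTi] at this
    have h5 := h3.mul_left h4.symm.inv_left
    rwa [mul_inv_cancel_right] at h5
  rcases c.legA.centre _ hi hcen0 with r | r
  · exact h1 r
  · exact h2 r

end CfsgLib.TwinComp
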