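import Cfsg.Agent.TwinComp.Exchange
import Cfsg.Agent.Comp.PComponent
import Cfsg.Agent.GLElem.PSL2Classes
import Cfsg.Agent.AutPSL.Bridge
import Cfsg.Agent.AutAlt.Main
import Cfsg.Prelude.Def_SporadicB

/-!
`SL₂(q)`, `q` odd, and the double cover of `A₇` as sides of a twin pair.
-/

set_option autoImplicit false
set_option linter.unusedSectionVars false
set_option linter.style.haveILetI false

namespace CfsgLib.TwinComp

open Subgroup

/-- Every involution lies in a four-group with a transitive element. -/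
def FourProp (S : Type*) [Group S] : Prop :=
  ∀ s : S, s * s = 1 → s ≠ 1 → ∃ r g : S, r ≠ s ∧ r * r = 1 ∧ Commute r s ∧
    g * s * g⁻¹ = r ∧ g * r * g⁻¹ = r * s

theorem FourProp.of_base {S : Type*} [Group S] {s₀ r₀ g₀ : S}
    (hall : ∀ s : S, s * s = 1 → s ≠ 1 → IsConj s₀ s) (h1 : r₀ ≠ s₀) (h2 : r₀ * r₀ = 1)
    (h3 : Commute r₀ s₀) (h4 : g₀ * s₀ * g₀⁻¹ = r₀) (h5 : g₀ * r₀ * g₀⁻¹ = r₀ * s₀) : FourProp S := by
  intro s hs hs1
  obtain ⟨σ, hσ⟩ := isConj_iff.1 (hall s hs hs1)
  refine ⟨σ * r₀ * σ⁻¹, σ * g₀ * σ⁻¹, fun e => h1 ?_, ?_, ?_, ?_, ?_⟩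
  · rw [← hσ] at e
    exact mul_left_cancel (mul_right_cancel e)
  · rw [show σ * r₀ * σ⁻¹ * (σ * r₀ * σ⁻¹) = σ * (r₀ * r₀) * σ⁻¹ by group, h2, mul_one, mul_inv_cancel]
  · rw [← hσ]
    exact h3.map (MulAut.conj σ).toMonoidHom
  · rw [← hσ, ← h4]; group
  · rw [← hσ, show σ * g₀ * σ⁻¹ * (σ * r₀ * σ⁻¹) * (σ * g₀ * σ⁻¹)⁻¹ = σ * (g₀ * r₀ * g₀⁻¹) * σ⁻¹ by group,
      h5]
    group

section Cover

variable {X : Type*} [Group X] [Finite X] {A : Subgroup X} {z : X} {S : Type*} [Group S]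

theorem center_quot_equiv {A B : Type*} [Group A] [Group B] (e : A ≃* B) :
    (Subgroup.center A).map e.toMonoidHom = Subgroup.center B := by
  ext b
  constructor
  · rintro ⟨a, ha, rfl⟩
    refine mem_center_iff.2 fun b => ?_
    obtain ⟨c, rfl⟩ := e.surjective b
    show e c * e a = e a * e c
    rw [← map_mul, ← map_mul, mem_center_iff.1 ha c]
  · intro hb
    refine ⟨e.symm b, mem_center_iff.2 fun c => e.injective ?_, e.apply_symm_apply b⟩
    rw [map_mul, map_mul, e.apply_symm_apply, mem_center_iff.1 hb]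

/-- A component with one involution whose quotient by the centre has the four-group property. -/
theorem leg_of_cover (hcomp : Cfsg.IsComponent A) (hmem : z ∈ A) (hne : z ≠ 1) (hsq : z * z = 1)
    (hcen : ∀ x, Commute z x) (hinv : ∀ a ∈ A, a * a = 1 → a = 1 ∨ a = z)
    (hc2 : Nat.card (Subgroup.center A) = 2) (e : ↥A ⧸ Subgroup.center A ≃* S) (hS : FourProp S) :
    Leg A z := by
  set π : A →* S := e.toMonoidHom.comp (QuotientGroup.mk' (Subgroup.center A))
  have hπs : Function.Surjective π := e.surjective.comp (QuotientGroup.mk'_surjective _)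
  have hzc : (⟨z, hmem⟩ : A) ∈ Subgroup.center A := mem_center_iff.2 fun b => Subtype.ext (hcen b).eq.symm
  have hcentre : ∀ a : A, a ∈ Subgroup.center A → (a : X) = 1 ∨ (a : X) = z := by
    intro a ha
    obtain ⟨p, q, hpq, huniv⟩ := Nat.card_eq_two_iff.1 hc2
    have hall : ∀ v : Subgroup.center A, v = p ∨ v = q := fun v => by
      have : v ∈ ({p, q} : Set _) := by rw [huniv]; exact Set.mem_univ v
      simpa using this
    have h1z : (1 : Subgroup.center A) ≠ ⟨_, hzc⟩ := fun h =>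
      hne (congrArg (fun v : Subgroup.center A => ((v : A) : X)) h).symm
    rcases hall ⟨a, ha⟩ with r | r <;> rcases hall 1 with r1 | r1 <;> rcases hall ⟨_, hzc⟩ with r2 | r2
    all_goals first
      | exact absurd (r1.trans r2.symm) h1z
      | exact Or.inl (congrArg (fun v : Subgroup.center A => ((v : A) : X)) (r.trans r1.symm))
      | exact Or.inr (congrArg (fun v : Subgroup.center A => ((v : A) : X)) (r.trans r2.symm))
  have hπ : ∀ a : A, π a = 1 → (a : X) = 1 ∨ (a : X) = z := fun a ha =>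
    hcentre a ((QuotientGroup.eq_one_iff a).1 (e.injective (ha.trans (map_one e).symm)))
  have hπz : π ⟨z, hmem⟩ = 1 := by
    show e (QuotientGroup.mk' _ _) = 1
    rw [show QuotientGroup.mk' (Subgroup.center A) ⟨z, hmem⟩ = 1 from (QuotientGroup.eq_one_iff _).2 hzc,
      map_one]
  refine ⟨hcomp, hmem, hne, hsq, hcen, hinv, fun a ha h =>
    hcentre ⟨a, ha⟩ (mem_center_iff.2 fun b => Subtype.ext (h b b.2).eq.symm), ?_⟩
  intro y hy hyy
  have hyπ : π ⟨y, hy⟩ * π ⟨y, hy⟩ = 1 := by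
    rw [← map_mul, show (⟨y, hy⟩ : A) * ⟨y, hy⟩ = ⟨z, hmem⟩ from Subtype.ext hyy, hπz]
  have hyne : π ⟨y, hy⟩ ≠ 1 := fun h => by
    rcases hπ _ h with r | r
    · exact hne (by rw [← hyy, show y = 1 from r, one_mul])
    · apply hne
      rw [← hyy, show y = z from r, hsq]
  obtain ⟨r, g, hrs, hrr, hc, hg1, hg2⟩ := hS _ hyπ hyne
  obtain ⟨x, rfl⟩ := hπs r
  obtain ⟨g, rfl⟩ := hπs g
  have hzi : z⁻¹ = z := inv_eq_of_mul_eq_one_right hsq
  -- congruent elements differ by `z`
  have cong : ∀ a b : A, π a = π b → (a : X) = b ∨ (a : X) = b * z := by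
    intro a b h
    rcases hπ (b⁻¹ * a) (by rw [map_mul, map_inv, h, inv_mul_cancel]) with r | r
    · exact Or.inl (inv_mul_eq_one.1 r).symm
    · exact Or.inr (inv_mul_eq_iff_eq_mul.1 r)
  have hx1 : π x ≠ 1 := fun h => hyne (by
    rw [← hg1] at h
    exact conj_eq_one_iff.1 h)
  have hxx : (x : X) * x = z := by
    rcases hπ (x * x) (by rw [map_mul, hrr]) with r | r
    · exfalso
      rcases hinv x x.2 r with r' | r'
      · exact hx1 (by rw [show x = 1 from Subtype.ext r', map_one])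
      · exact hx1 (by rw [show x = ⟨z, hmem⟩ from Subtype.ext r', hπz])
    · exact r
  have hyinv : y⁻¹ = y * z := inv_eq_iff_mul_eq_one.2 (by rw [← mul_assoc, hyy, hsq])
  have hxinv : (x : X)⁻¹ = x * z := inv_eq_iff_mul_eq_one.2 (by rw [← mul_assoc, hxx, hsq])
  have hconj : (x : X) * y * (x : X)⁻¹ = y * z := by
    rcases cong (x * ⟨y, hy⟩ * x⁻¹) ⟨y, hy⟩ (by rw [map_mul, map_mul, map_inv, hc.eq, mul_inv_cancel_right])
      with r | r
    · exfalso
      have hcm : Commute (x : X) y := mul_inv_eq_iff_eq_mul.1 r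
      have h1 : ((x : X) * y) * ((x : X) * y) = 1 := by
        rw [← pow_two, hcm.mul_pow, pow_two, pow_two, hxx, hyy, hsq]
      have hπ1 : π x * π ⟨y, hy⟩ = 1 := by
        rw [← map_mul]
        rcases hinv _ (mul_mem x.2 hy) h1 with r' | r'
        · rw [show x * ⟨y, hy⟩ = 1 from Subtype.ext r', map_one]
        · rw [show x * ⟨y, hy⟩ = ⟨z, hmem⟩ from Subtype.ext r', hπz]
      exact hrs (by rw [eq_inv_of_mul_eq_one_left hπ1, inv_eq_of_mul_eq_one_right hyπ])
    · exact r
  have hxy : ((x : X) * y) * ((x : X) * y) = z := by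
    calc ((x : X) * y) * ((x : X) * y) = ((x : X) * y * (x : X)⁻¹) * ((x : X) * x) * y := by group
      _ = y * (z * z) * y := by rw [hconj, hxx, mul_assoc y z z]
      _ = z := by rw [hsq, mul_one, hyy]
  have hxyinv : ((x : X) * y)⁻¹ = x * y * z := inv_eq_iff_mul_eq_one.2 (by rw [← mul_assoc, hxy, hsq])
  refine ⟨x, x.2, g, g.2, hxx, by rw [hyinv]; exact hconj, ?_, ?_⟩
  · rw [hxinv]
    exact cong (g * ⟨y, hy⟩ * g⁻¹) x (by rw [map_mul, map_mul, map_inv, hg1])
  · rw [hxyinv]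
    exact cong (g * x * g⁻¹) (x * ⟨y, hy⟩) (by rw [map_mul, map_mul, map_inv, hg2, map_mul])

theorem card_aut_le (hA : Leg A z) (e : ↥A ⧸ Subgroup.center A ≃* S) :
    Nat.card (MulAut ↥A) ≤ Nat.card (MulAut S) := by
  haveI : Group.IsPerfect A := hA.comp.2.1
  haveI : Finite S := Finite.of_equiv _ e.toEquiv
  haveI : Finite (MulAut S) := Finite.of_injective _ (DFunLike.coe_injective (F := MulAut S))
  let bar : MulAut ↥A → MulAut S := fun φ =>
    e.symm.trans ((QuotientGroup.congr (Subgroup.center A) (Subgroup.center A) φ (center_quot_equiv φ)).trans e)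
  refine Nat.card_le_card_of_injective bar fun φ ψ h => ?_
  have hc : ∀ a : A, (ψ a)⁻¹ * φ a ∈ Subgroup.center A := by
    intro a
    have := DFunLike.congr_fun h (e (QuotientGroup.mk' _ a))
    simp only [bar, MulEquiv.trans_apply, MulEquiv.symm_apply_apply] at this
    have h2 := e.injective this
    exact QuotientGroup.eq.1 h2.symm
  let k : A →* ↥(Subgroup.center A) := MonoidHom.mk' (fun a => ⟨(ψ a)⁻¹ * φ a, hc a⟩) (fun a b => Subtype.ext (by
    show (ψ (a * b))⁻¹ * φ (a * b) = (ψ a)⁻¹ * φ a * ((ψ b)⁻¹ * φ b)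
    rw [map_mul, map_mul, mul_inv_rev, mul_assoc (ψ b)⁻¹, ← mul_assoc (ψ a)⁻¹, ← mul_assoc (ψ b)⁻¹,
      mem_center_iff.1 (hc a) (ψ b)⁻¹, mul_assoc]))
  have hle : commutator ↥A ≤ k.ker := by
    rw [_root_.commutator_def, Subgroup.commutator_le]
    intro p _ q _
    rw [MonoidHom.mem_ker, map_commutatorElement, commutatorElement_eq_one_iff_mul_comm]
    exact Subtype.ext (mem_center_iff.1 (k q).2 _)
  rw [Group.IsPerfect.commutator_eq_top] at hle
  ext a
  exact congrArg Subtype.val (inv_mul_eq_one.1 (congrArg Subtype.val (MonoidHom.mem_ker.1 (hle (mem_top a))))).symm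

end Cover

/-! ### `PSL₂(q)` -/

section PSL

open Linear.SmallSub (P2)

variable (F : Type) [Field F] [Fintype F]

theorem card_ne_three (hS : IsSimpleGroup (P2 F)) (hodd : Odd (Fintype.card F)) : Fintype.card F ≠ 3 := by
  intro h3
  have h2 : (2 : F) = 0 → ∃ ω : F, ω ^ 2 + ω + 1 = 0 := fun h =>
    absurd h (SL2C.two_ne_zero_of_odd hodd)
  obtain ⟨H, ⟨e⟩⟩ := Linear.SmallSub.exists_altFour (F := F) h2
  have hH : Nat.card H = 12 := by
    rw [Nat.card_congr e.toEquiv, nat_card_alternatingGroup, Nat.card_fin]; rfl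
  have hP : Nat.card (P2 F) = 12 := by
    have := PSL2Classes.card_P2_mul (F := F) hodd
    rw [h3] at this
    omega
  have htop : H = ⊤ := Subgroup.eq_top_of_card_eq H (hH.trans hP.symm)
  have e' : P2 F ≃* alternatingGroup (Fin 4) :=
    (Subgroup.topEquiv.symm.trans (MulEquiv.subgroupCongr htop.symm)).trans e
  haveI : IsSimpleGroup (alternatingGroup (Fin 4)) := e'.symm.isSimpleGroup
  have hn := alternatingGroup.normal_kleinFour (α := Fin 4) (Nat.card_fin 4)
  have hk := alternatingGroup.kleinFour_card_of_card_eq_four (α := Fin 4) (Nat.card_fin 4)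
  rcases hn.eq_bot_or_eq_top with r | r
  · rw [r, Subgroup.card_bot] at hk; omega
  · rw [r, Subgroup.card_top, nat_card_alternatingGroup, Nat.card_fin] at hk
    norm_num [Nat.factorial] at hk

theorem fourProp_psl (hodd : Odd (Fintype.card F)) : FourProp (P2 F) := by
  obtain ⟨H, ⟨e⟩⟩ := Linear.SmallSub.exists_altFour (F := F) (fun h =>
    absurd h (SL2C.two_ne_zero_of_odd hodd))
  let s₀ : alternatingGroup (Fin 4) := ⟨Equiv.swap 0 1 * Equiv.swap 2 3, Equiv.Perm.mem_alternatingGroup.2 (by decide)⟩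
  let r₀ : alternatingGroup (Fin 4) := ⟨Equiv.swap 0 2 * Equiv.swap 1 3, Equiv.Perm.mem_alternatingGroup.2 (by decide)⟩
  let g₀ : alternatingGroup (Fin 4) := ⟨Equiv.swap 1 2 * Equiv.swap 2 3, Equiv.Perm.mem_alternatingGroup.2 (by decide)⟩
  let ι : alternatingGroup (Fin 4) →* P2 F := H.subtype.comp e.symm.toMonoidHom
  have hι : Function.Injective ι := H.subtype_injective.comp e.symm.injective
  refine FourProp.of_base (s₀ := ι s₀) (r₀ := ι r₀) (g₀ := ι g₀) (fun s hs hs1 => ?_) ?_ ?_ ?_ ?_ ?_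
  · refine Linear.FourGroups.involutions_conj hodd ?_ ?_ hs hs1
    · rw [← map_mul, show s₀ * s₀ = 1 from Subtype.ext (by decide), map_one]
    · exact fun h => absurd (hι (h.trans (map_one ι).symm)) (by decide)
  · exact fun h => absurd (hι h) (by decide)
  · rw [← map_mul, show r₀ * r₀ = 1 from Subtype.ext (by decide), map_one]
  · exact (show Commute r₀ s₀ from Subtype.ext (by decide)).map ι
  · rw [← map_inv, ← map_mul, ← map_mul, show g₀ * s₀ * g₀⁻¹ = r₀ from Subtype.ext (by decide)]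
  · rw [← map_inv, ← map_mul, ← map_mul, ← map_mul, show g₀ * r₀ * g₀⁻¹ = r₀ * s₀ from Subtype.ext (by decide)]

theorem aut_psl_lt (hodd : Odd (Fintype.card F)) (h3 : Fintype.card F ≠ 3) :
    Nat.card (MulAut (P2 F)) < Nat.card (P2 F) * Nat.card (P2 F) := by
  classical
  set q := Fintype.card F with hq
  have hq5 : 5 ≤ q := by
    have := SL2C.three_le_card hodd
    obtain ⟨k, hk⟩ := hodd
    omega
  have hP := PSL2Classes.card_P2_mul (F := F) hodd
  rw [← hq] at hP
  have hGL : Nat.card (GL (Fin 2) F) ≤ q ^ 4 := by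
    refine (Nat.card_le_card_of_injective (fun g : GL (Fin 2) F => fun i j => (g : Matrix (Fin 2) (Fin 2) F) i j)
      fun a b h => Units.ext (Matrix.ext fun i j => congrFun (congrFun h i) j)).trans ?_
    rw [Nat.card_fun, Nat.card_fun, Nat.card_eq_fintype_card (α := F), Nat.card_fin, ← hq]
    exact le_of_eq (by ring)
  obtain ⟨u, hu⟩ := IsCyclic.exists_generator (α := Fˣ)
  have hR : Nat.card (F ≃+* F) ≤ q := by
    refine (Nat.card_le_card_of_injective (fun σ : F ≃+* F => σ u) fun σ τ h => ?_).trans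
      (le_of_eq Nat.card_eq_fintype_card)
    refine RingEquiv.ext fun a => ?_
    by_cases ha : a = 0
    · rw [ha, map_zero, map_zero]
    obtain ⟨k, hk⟩ := mem_zpowers_iff.1 (hu (Units.mk0 a ha))
    have e : a = (u : F) ^ k := by rw [← Units.val_zpow_eq_zpow_val, hk]; rfl
    rw [e, map_zpow₀, map_zpow₀, show σ u = τ u from h]
  have h1 : Nat.card (MulAut (P2 F)) ≤ Nat.card (GL (Fin 2) F × (F ≃+* F)) := by
    haveI : Finite (F ≃+* F) := Finite.of_injective _ (DFunLike.coe_injective (F := F ≃+* F))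
    refine Nat.card_le_card_of_surjective (fun p => AutPSL.semiAut p.1 p.2) fun β => ?_
    obtain ⟨g, σ, h⟩ := AutPSL.exists_semi_two β
    exact ⟨(g, σ), h.symm⟩
  rw [Nat.card_prod] at h1
  have h2 : Nat.card (MulAut (P2 F)) ≤ q ^ 4 * q := h1.trans (Nat.mul_le_mul hGL hR)
  have hsq : q ^ 2 - 1 + 1 = q ^ 2 := Nat.sub_add_cancel (Nat.one_le_pow _ _ (by omega))
  generalize hm : q ^ 2 - 1 = m at hP hsq
  have h4 : 4 * (q ^ 4 * q) < q * m * (q * m) := by
    have hm2 : 4 * q ^ 3 < m * m := by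
      have : m + 1 = q * q := by rw [hsq, pow_two]
      nlinarith [Nat.mul_le_mul hq5 hq5, Nat.mul_le_mul_right (q * q * q) hq5]
    calc 4 * (q ^ 4 * q) = q * q * (4 * q ^ 3) := by ring
      _ < q * q * (m * m) := Nat.mul_lt_mul_of_pos_left hm2 (by positivity)
      _ = q * m * (q * m) := by ring
  rw [← hP] at h4
  nlinarith

end PSL

/-! ### `A₇` -/

theorem fourProp_alt_seven : FourProp (alternatingGroup (Fin 7)) := by
  refine FourProp.of_base (s₀ := ⟨Equiv.swap 0 1 * Equiv.swap 2 3, Equiv.Perm.mem_alternatingGroup.2 (by decide)⟩)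
    (r₀ := ⟨Equiv.swap 0 2 * Equiv.swap 1 3, Equiv.Perm.mem_alternatingGroup.2 (by decide)⟩)
    (g₀ := ⟨Equiv.swap 1 2 * Equiv.swap 2 3, Equiv.Perm.mem_alternatingGroup.2 (by decide)⟩) (fun s hs hs1 => ?_) (by decide)
    (Subtype.ext (by decide)) (Subtype.ext (by decide)) (Subtype.ext (by decide)) (Subtype.ext (by decide))
  set p : Equiv.Perm (Fin 7) := (s : Equiv.Perm (Fin 7))
  have hp2 : orderOf p = 2 := orderOf_eq_prime (by rw [pow_two]; exact congrArg Subtype.val hs)
    fun e => hs1 (Subtype.ext e)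
  obtain ⟨n, hn⟩ := Equiv.Perm.cycleType_prime_order (σ := p) (by rw [hp2]; exact Nat.prime_two)
  rw [hp2] at hn
  have hsum := p.sum_cycleType_le
  have hsign := Equiv.Perm.sign_of_cycleType p
  rw [Equiv.Perm.mem_alternatingGroup.1 s.2, hn, Multiset.sum_replicate, Multiset.card_replicate] at hsign
  rw [hn, Multiset.sum_replicate, Fintype.card_fin] at hsum
  simp only [smul_eq_mul] at hsum hsign
  have hn1 : n = 1 := by
    rcases n with _ | _ | _ | n
    · simp at hsign; exact absurd hsign (by decide)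
    · rfl
    · simp at hsign; exact absurd hsign (by decide)
    · omega
  subst hn1
  obtain ⟨σ, hσ⟩ := isConj_iff.1 (Equiv.Perm.isConj_iff_cycleType_eq.2
    ((show (Equiv.swap (0 : Fin 7) 1 * Equiv.swap 2 3).cycleType = p.cycleType by rw [hn]; decide)))
  rcases Int.units_eq_one_or (Equiv.Perm.sign σ) with h | h
  · exact isConj_iff.2 ⟨⟨σ, Equiv.Perm.mem_alternatingGroup.2 h⟩, Subtype.ext hσ⟩
  · refine isConj_iff.2 ⟨⟨σ * Equiv.swap 0 1, Equiv.Perm.mem_alternatingGroup.2 (by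
      rw [map_mul, h, Equiv.Perm.sign_swap (by decide)]; rfl)⟩, Subtype.ext ?_⟩
    show σ * Equiv.swap 0 1 * (Equiv.swap 0 1 * Equiv.swap 2 3) * (σ * Equiv.swap 0 1)⁻¹ = p
    have e : Equiv.swap (0 : Fin 7) 1 * (Equiv.swap 0 1 * Equiv.swap 2 3) * (Equiv.swap 0 1)⁻¹ =
        Equiv.swap 0 1 * Equiv.swap 2 3 := by decide
    rw [← hσ]
    conv_rhs => rw [← e]
    group

theorem aut_alt_seven_lt : Nat.card (MulAut (alternatingGroup (Fin 7))) <
    Nat.card (alternatingGroup (Fin 7)) * Nat.card (alternatingGroup (Fin 7)) := by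
  have h := Nat.card_le_card_of_surjective
    (fun σ : Equiv.Perm (Fin 7) => (MulAut.conjNormal σ : MulAut (alternatingGroup (Fin 7))))
    fun φ => AutAlt.exists_conj (by decide) (by decide) (o := (0 : Fin 7)) (u := 1) (by decide) φ
  rw [Nat.card_perm, Nat.card_fin] at h
  have hc : Nat.card (alternatingGroup (Fin 7)) = 2520 := by
    rw [nat_card_alternatingGroup, Nat.card_fin]; rfl
  rw [hc]
  have : Nat.factorial 7 = 5040 := rfl
  omega

end CfsgLib.TwinComp
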