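import Cfsg.Agent.TwinComp.Swap

/-!
The case of an anti-fixed element, and the resulting dichotomy for a two-element of `B`.
-/

set_option autoImplicit false
set_option linter.unusedSectionVars false
set_option linter.style.haveILetI false

namespace CfsgLib.TwinComp

open Subgroup

variable {D X Y : Type*} [Group D] [Group X] [Group Y] [Finite D] [Finite X] [Finite Y]

theorem odd_card_core {G : Type*} [Group G] [Finite G] : Odd (Nat.card (Cfsg.pPrimeCore 2 G)) :=
  Nat.coprime_two_right.1 (Solvable.coprime_card_pPrimeCore 2)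

theorem mem_core_of_map {M : Type*} [Group M] (f : D →* M) (h : Odd (Nat.card f.ker)) {a : D}
    (ha : f a = 1) : a ∈ Cfsg.pPrimeCore 2 D :=
  Solvable.le_pPrimeCore 2 (MonoidHom.normal_ker f) (Nat.coprime_two_right.2 h) (MonoidHom.mem_ker.2 ha)

theorem mem_core_aut (φ : MulAut D) {a : D} (ha : a ∈ Cfsg.pPrimeCore 2 D) : φ a ∈ Cfsg.pPrimeCore 2 D := by
  have hn : ((Cfsg.pPrimeCore 2 D).map φ.toMonoidHom).Normal :=
    (inferInstance : (Cfsg.pPrimeCore 2 D).Normal).map _ φ.surjective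
  refine Solvable.le_pPrimeCore 2 hn ?_ ⟨a, ha, rfl⟩
  rw [card_map_of_injective φ.injective]
  exact Solvable.coprime_card_pPrimeCore 2

theorem mk_aut (φ : MulAut D) {a b : D}
    (h : (QuotientGroup.mk' (Cfsg.pPrimeCore 2 D)) a = QuotientGroup.mk' (Cfsg.pPrimeCore 2 D) b) :
    QuotientGroup.mk' (Cfsg.pPrimeCore 2 D) (φ a) = QuotientGroup.mk' (Cfsg.pPrimeCore 2 D) (φ b) := by
  rw [QuotientGroup.mk'_apply, QuotientGroup.mk'_apply, QuotientGroup.eq] at h ⊢
  rw [← map_inv, ← map_mul]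
  exact mem_core_aut φ h

theorem mk_of_map {M : Type*} [Group M] (f : D →* M) (hk : Odd (Nat.card f.ker)) {a b : D} (h : f a = f b) :
    QuotientGroup.mk' (Cfsg.pPrimeCore 2 D) a = QuotientGroup.mk' (Cfsg.pPrimeCore 2 D) b := by
  rw [QuotientGroup.mk'_apply, QuotientGroup.mk'_apply, QuotientGroup.eq]
  exact mem_core_of_map f hk (by rw [map_mul, map_inv, h, inv_mul_cancel])

namespace Moved

variable {c : Ctx D X Y} {y : D} (hy : Moved c y)
include hy

theorem exit_of_anti (hlink : Linked c) {u : X} (hu : u ∈ c.A) (huz : u * u = c.f c.z)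
    (hanti : c.f c.t * u * (c.f c.t)⁻¹ = u * c.f c.z) : Exit c := by
  have hyt := hy.sq_eq_t
  have hTT := c.ft_sq
  obtain ⟨U, hUdef⟩ : ∃ U, U = c.f y * u * (c.f y)⁻¹ := ⟨_, rfl⟩
  have hUz : U * U = c.f c.z := by
    rw [hUdef, show c.f y * u * (c.f y)⁻¹ * (c.f y * u * (c.f y)⁻¹) = c.f y * (u * u) * (c.f y)⁻¹ by group,
      huz, ← (c.legA.cen _).eq, mul_inv_cancel_right]
  have huU : Commute u U := hUdef ▸ hy.comm hu hu
  obtain ⟨V, hV2, hV⟩ := c.lift2 (pair_fixed c.legA (c.ft_comm y) (Or.inr hanti)).symm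
    (hy.pair_two hu (c.legA.two_of_sq huz))
  have hVV : V * V = 1 := c.fker_two (hV2.mul hV2 (Commute.refl V)) (by
    rw [map_mul, hV, ← hUdef, ← pow_two, huU.mul_pow, pow_two, pow_two, huz, hUz, c.legA.sq])
  have hC : u⁻¹ * (c.f (y * y) * u * (c.f (y * y))⁻¹) = c.f c.z := by
    rw [hyt, hanti, inv_mul_cancel_left]
  have hVB : c.g V ∉ normalizer (c.B : Set Y) := fun hB => c.legA.ne (by
    rw [← hC]
    exact hy.eq_one_of_lift_fix hB hu hV (by rw [hC]; exact c.legA.z_two))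
  obtain ⟨v, hv⟩ : ∃ v, v = c.g V := ⟨_, rfl⟩
  rw [← hv] at hVB
  have hvv : v * v = 1 := by rw [hv, ← map_mul, hVV, map_one]
  have hvi : v⁻¹ = v := inv_eq_of_mul_eq_one_right hvv
  have hfe : c.f (V⁻¹ * y * V * y⁻¹) = c.f c.z := by rw [hy.comm_val hu hV, hC]
  have hcomm : ∀ {a b : Y}, a ∈ c.B → b ∈ c.B → Commute a (v * b * v) := fun ha hb => by
    have := c.legB.commute_of_moved hVB ha hb
    rwa [hvi] at this
  have hzz : c.g c.z * c.g c.z = 1 := by rw [← map_mul, c.zz, map_one]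
  have hb : c.g y * c.g y = c.g c.t := by rw [← map_mul, hyt]
  obtain ⟨b, hbdef⟩ : ∃ b, b = c.g y := ⟨_, rfl⟩
  rw [← hbdef] at hb
  have hbB : b ∈ c.B := hbdef ▸ hy.mem
  have hgz : v * b * v * b⁻¹ = c.g c.z := by
    have hge : c.g (V⁻¹ * y * V * y⁻¹) = v * b * v * b⁻¹ := by
      simp only [map_mul, map_inv, ← hv, ← hbdef, hvi]
    have h2 : IsTwoElem (v * b * v * b⁻¹) := by
      have := ((hbdef ▸ hy.two.map c.g : IsTwoElem b).conj v).mul (hbdef ▸ hy.two.map c.g : IsTwoElem b).inv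
        (by rw [hvi]; exact (hcomm (inv_mem hbB) hbB).symm)
      rwa [hvi] at this
    have hk : c.f (c.z⁻¹ * (V⁻¹ * y * V * y⁻¹)) = 1 := by rw [map_mul, map_inv, hfe, inv_mul_cancel]
    have hone : (c.g c.z)⁻¹ * (v * b * v * b⁻¹) = 1 := by
      refine eq_one_of_two_of_odd ((c.z_two.map c.g).inv.mul h2 ?_) ?_
      · rw [← hge]
        exact (((c.zc (V⁻¹ * y * V * y⁻¹)).map c.g)).inv_left
      · have := (odd_orderOf_of_mem c.kerf (MonoidHom.mem_ker.2 hk)).of_dvd_nat (orderOf_map_dvd c.g _)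
        rwa [map_mul, map_inv, hge] at this
    exact (inv_mul_eq_one.1 hone).symm
  obtain ⟨x, hx, h₁, hh₁, hxx, hxb, h3, h4⟩ := c.legB.four b hbB hb
  have hbinv : b⁻¹ = b * c.g c.t := inv_eq_iff_mul_eq_one.2 (by rw [← mul_assoc, hb, c.legB.sq])
  have hxinv : x⁻¹ = x * c.g c.t := inv_eq_iff_mul_eq_one.2 (by rw [← mul_assoc, hxx, c.legB.sq])
  have hzx : c.g c.z * x * (c.g c.z)⁻¹ = x * c.g c.t := by
    have hact : b⁻¹ * x * b = x * c.g c.t := by
      have h' : x * b = b⁻¹ * x := by rw [← hxb]; group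
      rw [mul_assoc, h', ← mul_assoc, ← mul_inv_rev, hb, c.legB.inv_z]
      exact c.legB.cen x
    rw [← hgz, ← hact]
    have hc : Commute (b⁻¹ * x * b) (v * b * v) := hcomm (mul_mem (mul_mem (inv_mem hbB) hx) hbB) hbB
    calc v * b * v * b⁻¹ * x * (v * b * v * b⁻¹)⁻¹ = (v * b * v) * (b⁻¹ * x * b) * (v * b * v)⁻¹ := by group
      _ = b⁻¹ * x * b := by rw [← hc.eq, mul_inv_cancel_right]
  obtain ⟨X', hX'⟩ : ∃ X', X' = x * (v * x * v) := ⟨_, rfl⟩
  have hvxv : v * x * v * (v * x * v) = c.g c.t := by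
    calc v * x * v * (v * x * v) = v * (x * (v * v) * x) * v := by group
      _ = v * (c.g c.t * v) := by rw [hvv, mul_one, hxx, mul_assoc]
      _ = c.g c.t := by rw [(c.legB.cen v).eq, ← mul_assoc, hvv, one_mul]
  have hX'sq : X' * X' = 1 := by
    rw [hX', ← pow_two, (hcomm hx hx).mul_pow, pow_two, pow_two, hxx, hvxv, c.legB.sq]
  have hzv : Commute (c.g c.z) v := hv ▸ (c.zc V).map c.g
  have hvX : Commute X' (c.g c.z) := by
    have := (pair_fixed c.legB hzv (Or.inr hzx)).symm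
    rwa [hvi, ← hX'] at this
  obtain ⟨X₁, hX₁2, hX₁⟩ := c.symm.lift2 (x := X') hvX (IsTwoElem.of_sq hX'sq)
  replace hX₁ : c.g X₁ = X' := hX₁
  have hXX : X₁ * X₁ = 1 := c.gker_two (hX₁2.mul hX₁2 (Commute.refl X₁)) (by rw [map_mul, hX₁, hX'sq])
  obtain ⟨θ, ψ, hθt, hθ, hψt, hψz, hψ, L, hL, hθψ⟩ := hlink u hu huz hanti x hx hxx hzx
  -- congruences modulo the odd core
  let π := QuotientGroup.mk' (Cfsg.pPrimeCore 2 D)
  have hvX' : v * X' * v = X' := by
    rw [hX', show v * (x * (v * x * v)) * v = v * x * v * x * (v * v) by group, hvv, mul_one, (hcomm hx hx).eq]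
  have e1 : π (θ y) = π (V * c.z * y) := mk_of_map c.f c.kerf (by
    rw [hθ, map_mul, map_mul, hV]
    have : c.f y * u⁻¹ = c.f y * u * c.f c.z := by
      rw [show u⁻¹ = u * c.f c.z from inv_eq_iff_mul_eq_one.2 (by rw [← mul_assoc, huz, c.legA.sq]), ← mul_assoc]
    rw [mul_assoc u (c.f y) u⁻¹, this]
    rw [show u * (c.f y * u * (c.f y)⁻¹) * c.f c.z * c.f y = u * (c.f y * u * ((c.f y)⁻¹ * c.f c.z) * c.f y) by
      group, ← (c.legA.cen (c.f y)⁻¹).eq]
    group)
  have e2 : π (ψ V) = π (X₁ * c.t * V) := mk_of_map c.g c.kerg (by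
    rw [hψ, map_mul, map_mul, hX₁, ← hv, hxinv, hX']
    rw [show x * (v * x * v) * c.g c.t * v = x * (v * x * (v * (c.g c.t * v))) by group, (c.legB.cen v).eq,
      ← mul_assoc v v, hvv, one_mul]
    group)
  have e3 : π (ψ X₁) = π X₁ := mk_of_map c.g c.kerg (by
    rw [hψ, hX₁, hX', ← mul_assoc x x, mul_assoc (x * x), (hcomm hx hx).inv_left.symm.eq, hxx, hxinv]
    rw [show c.g c.t * (x * c.g c.t * (v * x * v)) = c.g c.t * x * (c.g c.t * (v * x * v)) by group,
      (c.legB.cen x).eq, mul_assoc x, ← mul_assoc (c.g c.t) (c.g c.t), c.legB.sq, one_mul])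
  have hbX' : b * X' = X' * c.g c.t * b := by
    rw [hX', ← mul_assoc]
    have h' : b * x = x * c.g c.t * b := by
      rw [show x * c.g c.t * b = x * b * c.g c.t by rw [mul_assoc, (c.legB.cen b).eq, ← mul_assoc],
        show x * b = b⁻¹ * x by rw [← hxb]; group, hbinv,
        show b * c.g c.t * x * c.g c.t = b * (c.g c.t * x) * c.g c.t by group, (c.legB.cen x).eq,
        show b * (x * c.g c.t) * c.g c.t = b * x * (c.g c.t * c.g c.t) by group, c.legB.sq, mul_one]
    rw [h', mul_assoc (x * c.g c.t) b, (hcomm hbB hx).eq, ← mul_assoc,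
      mul_assoc x (c.g c.t) (v * x * v), (c.legB.cen (v * x * v)).eq]
    group
  have e4 : π (y * X₁) = π (X₁ * c.t * y) := mk_of_map c.g c.kerg (by
    simp only [map_mul, hX₁, ← hbdef, hbX'])
  have e5 : π (V * X₁) = π (X₁ * V) := mk_of_map c.g c.kerg (by
    rw [map_mul, map_mul, hX₁, ← hv]
    conv_rhs => rw [← hvX', mul_assoc (v * X'), hvv, mul_one])
  have e6 : π (V * y * V) = π (c.z * y) := mk_of_map c.g c.kerg (by
    rw [map_mul, map_mul, map_mul, ← hv, ← hbdef, ← hgz, inv_mul_cancel_right])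
  have hz : ∀ a, Commute (π c.z) a := fun a => by
    obtain ⟨d, rfl⟩ := QuotientGroup.mk'_surjective _ a
    exact (c.zc d).map π
  have ht : ∀ a, Commute (π c.t) a := fun a => by
    obtain ⟨d, rfl⟩ := QuotientGroup.mk'_surjective _ a
    exact (c.tc d).map π
  simp only [map_mul] at e1 e2 e4 e5 e6
  obtain ⟨y₂, hy₂⟩ : ∃ y₂, y₂ = ψ.symm (θ y) := ⟨_, rfl⟩
  have hwL : c.f y₂ ∈ L := hy₂ ▸ hθψ y hy.mem
  have hy₂sq : y₂ * y₂ = c.z := by
    rw [hy₂, ← map_mul, ← map_mul, hyt, hθt, MulEquiv.symm_apply_eq, hψz]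
    exact c.tc c.z
  have hwz : c.f y₂ * c.f y₂ = c.f c.z := by rw [← map_mul, hy₂sq]
  have hTL : c.f c.t ∉ L := fun h => by
    rcases hL.invol _ h hTT with e | e
    · exact c.ft_ne_one e
    · exact c.ft_ne e
  by_cases hLN : c.f c.t ∈ normalizer (L : Set X)
  swap
  · -- a component moved by `t` commutes with both conjugates
    exfalso
    have hLA : L ≠ c.A := fun e => hLN (e ▸ hy.t_fix)
    have hLY : L ≠ cj (c.f y) c.A := fun e => hLN (by
      rw [e, ← cj_eq_iff, cj_cj, (c.ft_comm y).eq, ← cj_cj, cj_eq_iff.2 hy.t_fix])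
    have hcV : Commute (c.f y₂) (c.f V) := by
      rw [hV]
      refine Commute.mul_right ?_ ?_
      · rcases Comp.component_eq_or_commute hL.comp c.legA.comp with e | e
        · exact absurd e hLA
        · exact (mem_centralizer_iff.1 (commutator_eq_bot_iff_le_centralizer.1 e hwL) _ hu).symm
      · rcases Comp.component_eq_or_commute hL.comp (c.legA.conj (c.f y)).comp with e | e
        · exact absurd e hLY
        · exact (mem_centralizer_iff.1 (commutator_eq_bot_iff_le_centralizer.1 e hwL) _ (conj_mem_cj hu)).symm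
    have h7 : π (ψ (y₂ * V)) = π (ψ (V * y₂)) :=
      mk_aut ψ (mk_of_map c.f c.kerf (by rw [map_mul, map_mul, hcV.eq]))
    rw [map_mul, map_mul, map_mul, map_mul, hy₂, MulEquiv.apply_symm_apply, e1, e2] at h7
    have hq : ∀ {a : D}, a * a = 1 → π a * π a = 1 := fun h => by rw [← map_mul, h, map_one]
    have hV2q := hq hVV
    have hT2q := hq c.tt
    have hZ2q := hq c.zz
    have key : π c.t * π c.z = 1 := by
      generalize π V = V', π X₁ = F, π y = y', π c.z = Z, π c.t = T at *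
      have hl : V' * Z * y' * (F * T * V') = F * y' := by
        calc V' * Z * y' * (F * T * V') = Z * (V' * (y' * F) * T * V') := by
              rw [← (hz V').eq]; group
          _ = Z * ((V' * F) * (T * y' * T) * V') := by rw [e4]; group
          _ = Z * ((F * V') * (y' * (T * T)) * V') := by rw [e5, (ht y').eq, mul_assoc y' T T]
          _ = Z * F * (V' * y' * V') := by rw [hT2q, mul_one]; group
          _ = F * y' := by rw [e6, (hz F).eq, mul_assoc F Z, ← mul_assoc Z Z, hZ2q, one_mul]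
      have hr : F * T * V' * (V' * Z * y') = F * (T * Z) * y' := by
        rw [show F * T * V' * (V' * Z * y') = F * T * (V' * V') * Z * y' by group, hV2q]; group
      rw [hl, hr] at h7
      exact mul_eq_left.1 (mul_right_cancel h7).symm
    have hmem : c.t * c.z ∈ Cfsg.pPrimeCore 2 D := (QuotientGroup.eq_one_iff _).1 (by
      rw [← QuotientGroup.mk'_apply, map_mul]; exact key)
    have := eq_one_of_two_of_mem odd_card_core hmem (c.t_two.mul c.z_two (c.tc c.z))
    exact c.hne (mul_eq_one_iff_eq_inv.1 this ▸ inv_eq_of_mul_eq_one_right c.zz).symm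
  · have hq : ∀ {a : D}, a * a = 1 → π a * π a = 1 := fun h => by rw [← map_mul, h, map_one]
    have e7 : π (θ y * X₁) = π (X₁ * c.t * θ y) := by
      rw [map_mul, map_mul, map_mul, e1]
      generalize π V = V', π X₁ = F, π y = y', π c.z = Z, π c.t = T at *
      calc V' * Z * y' * F = V' * Z * (y' * F) := by group
        _ = V' * (Z * F) * (T * y') := by rw [e4]; group
        _ = (V' * F) * Z * (T * y') := by rw [(hz F).eq]; group
        _ = F * (V' * T) * Z * y' := by rw [e5, ← mul_assoc _ T y', mul_assoc (F * V') Z T, (hz T).eq]; group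
        _ = F * T * (V' * Z * y') := by rw [← (ht V').eq]; group
    have e8 : π (y₂ * X₁) = π (X₁ * c.t * y₂) := by
      have h := mk_aut ψ.symm e7
      have h3 := mk_aut ψ.symm e3
      rw [MulEquiv.symm_apply_apply] at h3
      simp only [map_mul, ← hy₂, show ψ.symm c.t = c.t from (MulEquiv.symm_apply_eq _).2 hψt.symm] at h
      simp only [map_mul]
      rwa [← show π X₁ = π (ψ.symm X₁) from h3] at h
    have hκ : (X₁ * c.t * y₂)⁻¹ * (y₂ * X₁) ∈ Cfsg.pPrimeCore 2 D := QuotientGroup.eq.1 e8.symm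
    obtain ⟨κ, hκ', hκdef⟩ : ∃ κ ∈ Cfsg.pPrimeCore 2 D, κ = y₂ * ((X₁ * c.t * y₂)⁻¹ * (y₂ * X₁)) * y₂⁻¹ :=
      ⟨_, (inferInstance : (Cfsg.pPrimeCore 2 D).Normal).conj_mem _ hκ y₂, rfl⟩
    have hX1i : X₁⁻¹ = X₁ := inv_eq_of_mul_eq_one_right hXX
    have hrel : (c.f X₁)⁻¹ * c.f y₂ * c.f X₁ = c.f c.t * c.f κ * c.f y₂ := by
      rw [← map_inv, ← map_mul, ← map_mul, ← map_mul, ← map_mul, hκdef]
      congr 1
      group
    have hodd : Odd (orderOf (c.f κ)) :=
      (odd_orderOf_of_mem odd_card_core hκ').of_dvd_nat (orderOf_map_dvd c.f κ)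
    obtain ⟨hFL, -⟩ := twist hL hwL hwz hTT (c.ft_comm κ) (c.ft_comm y₂) hodd hLN hTL hrel
    have hF'L : (c.f X₁)⁻¹ ∉ normalizer (L : Set X) := fun e => hFL (by simpa using inv_mem e)
    have hw2 := hL.two_of_sq hwz
    have h2 : IsTwoElem (c.f c.t * c.f κ) := by
      have e : c.f c.t * c.f κ = (c.f X₁)⁻¹ * c.f y₂ * c.f X₁ * (c.f y₂)⁻¹ := by rw [hrel, mul_inv_cancel_right]
      have hc := hL.commute_of_moved hF'L hwL hwL
      rw [inv_inv] at hc
      have hconj := hw2.conj (c.f X₁)⁻¹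
      rw [inv_inv] at hconj
      rw [e]
      exact hconj.mul hw2.inv hc.symm.inv_right
    have hk1 : c.f κ = 1 := by
      refine eq_one_of_two_of_odd ?_ hodd
      have := (c.t_two.map c.f).mul h2 ((c.ft_comm c.t).mul_right (c.ft_comm κ))
      rwa [← mul_assoc, hTT, one_mul] at this
    rw [hk1, mul_one] at hrel
    -- the element of `Y`
    have hP : ∀ {a a' : Y}, a ∈ c.B → a' ∈ c.B → a * a' * (v * (a * a') * v) =
        a * (v * a * v) * (a' * (v * a' * v)) := by
      intro a a' ha ha'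
      calc a * a' * (v * (a * a') * v) = a * (a' * (v * a * v)) * (v⁻¹ * a' * v) := by group
        _ = a * (v * a * v) * (a' * (v * a' * v)) := by rw [(hcomm ha' ha).eq, hvi]; group
    have hPi : ∀ {a : Y}, a ∈ c.B → a * a = c.g c.t → a⁻¹ * (v * a⁻¹ * v) = a * (v * a * v) := by
      intro a ha haa
      rw [show a⁻¹ = a * c.g c.t from inv_eq_iff_mul_eq_one.2 (by rw [← mul_assoc, haa, c.legB.sq])]
      calc a * c.g c.t * (v * (a * c.g c.t) * v) = a * (c.g c.t * (v * a * (c.g c.t * v))) := by group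
        _ = a * (v * a * v) * (c.g c.t * c.g c.t) := by
            rw [(c.legB.cen v).eq, (c.legB.cen (v * a * (v * c.g c.t))).eq]; group
        _ = a * (v * a * v) := by rw [c.legB.sq, mul_one]
    obtain ⟨h, hh⟩ : ∃ h, h = h₁ * (v * h₁ * v) := ⟨_, rfl⟩
    have hconj : ∀ {a : Y}, a ∈ c.B →
        h * (a * (v * a * v)) * h⁻¹ = h₁ * a * h₁⁻¹ * (v * (h₁ * a * h₁⁻¹) * v) := by
      intro a ha
      have hm : h₁ * a * h₁⁻¹ ∈ c.B := mul_mem (mul_mem hh₁ ha) (inv_mem hh₁)
      calc h * (a * (v * a * v)) * h⁻¹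
          = h₁ * (v * h₁ * v * a) * (v * a * v) * (v⁻¹ * h₁⁻¹ * v⁻¹) * h₁⁻¹ := by rw [hh]; group
        _ = h₁ * a * (v * h₁ * (v * v) * a * (v * v⁻¹) * h₁⁻¹ * v⁻¹) * h₁⁻¹ := by
            rw [← (hcomm ha hh₁).eq]; group
        _ = h₁ * a * ((v * (h₁ * a * h₁⁻¹) * v) * h₁⁻¹) := by rw [hvv, mul_inv_cancel, hvi]; group
        _ = h₁ * a * h₁⁻¹ * (v * (h₁ * a * h₁⁻¹) * v) := by
            rw [← (hcomm (inv_mem hh₁) hm).eq]; group
    have hxbsq : x * b * (x * b) = c.g c.t := by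
      rw [show x * b * (x * b) = x * b * x⁻¹ * (x * x) * b by group, hxb, hxx, mul_assoc, (c.legB.cen b).eq,
        inv_mul_cancel_left]
    have hhb : h * (b * (v * b * v)) * h⁻¹ = X' := by
      rw [hconj hbB, hX']
      rcases h3 with e | e <;> rw [e]
      exact hPi hx hxx
    have hhx : h * X' * h⁻¹ = X' * (b * (v * b * v)) := by
      rw [hX', hconj hx]
      rcases h4 with e | e <;> rw [e]
      · exact hP hx hbB
      · rw [hPi (mul_mem hx hbB) hxbsq, hP hx hbB]
    have hzP : c.g c.z = b * (v * b * v) * c.g c.t := by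
      rw [← hgz, hbinv, ← mul_assoc, (hcomm hbB hbB).symm.eq]
    refine ⟨L, c.f y₂, X₁, h, hL, hwL, hwz, hXX, hFL, ?_, ?_, ?_⟩
    · have hF1 : (c.f X₁)⁻¹ = c.f X₁ := by rw [← map_inv, hX1i]
      rw [hF1] at hrel ⊢
      rw [hrel, mul_inv_cancel_right]
    · rw [hX₁, hzP, show h * (b * (v * b * v) * c.g c.t) * h⁻¹ = h * (b * (v * b * v)) * (c.g c.t * h⁻¹) by group,
        (c.legB.cen h⁻¹).eq, ← mul_assoc, hhb]
      exact (c.legB.cen X').symm
    · rw [hX₁, hhx, hzP, ← mul_assoc (c.g c.t), (c.legB.cen _).eq, mul_assoc (b * (v * b * v)) (c.g c.t),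
        c.legB.sq, mul_one]
      have hc1 : Commute (x * (v * x * v)) (b * (v * b * v)) := by
        have hzX : Commute X' (b * (v * b * v) * c.g c.t) := hzP ▸ hvX
        have := hzX.mul_right (c.legB.cen X').symm
        rwa [mul_assoc (b * (v * b * v)), c.legB.sq, mul_one, hX'] at this
      rw [hX']
      exact hc1.eq

end Moved

theorem Moved.exit {c : Ctx D X Y} {y : D} (hy : Moved c y) (hlink : Linked c) : Exit c := by
  obtain ⟨Q, p, q, hQ, hQβ⟩ := exists_qdata c.legA ((hy.two.mul hy.two (Commute.refl y)).map c.f) hy.sqfix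
  have key : ∀ u ∈ Q, u * u = c.f c.z → ¬ Commute (c.f c.t) u → Exit c := fun u hu huz hne => by
    obtain ⟨a, ha, haz, hanti⟩ := exists_anti_four c.legA hQ.le hQ.two c.ft_sq (hy.t_invariant hQβ) hu huz
      (fun e => hne (mul_inv_eq_iff_eq_mul.1 (by rw [c.ft_inv, e])))
    exact hy.exit_of_anti hlink ha haz (by rw [c.ft_inv]; exact hanti)
  by_cases h : Commute (c.f c.t) p ∧ Commute (c.f c.t) q
  · exact (hy.not_fix_pair (hQ.le hQ.p_mem) (hQ.le hQ.q_mem) hQ.pp hQ.qq hQ.rel hQ.ne h.1 h.2).elim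
  · rcases not_and_or.1 h with h' | h'
    · exact key p hQ.p_mem hQ.pp h'
    · exact key q hQ.q_mem hQ.qq h'

/-- Either every two-element of `B` which is not an involution fixes `A`, or there is an exit. -/
theorem Ctx.fixes_or_exit (c : Ctx D X Y) (hAB : Nat.card c.A = Nat.card c.B) (hlink : Linked c) {y : D}
    (hyB : c.g y ∈ c.B) (hy2 : IsTwoElem y) (hsq : y * y ≠ 1) :
    c.f y ∈ normalizer (c.A : Set X) ∨ Exit c := by
  refine or_iff_not_imp_left.2 fun hY => ?_
  classical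
  have hex : ∃ n : ℕ, c.f (y ^ 2 ^ n) ∈ normalizer (c.A : Set X) := by
    obtain ⟨n, hn⟩ := hy2
    exact ⟨n, by rw [hn, map_one]; exact one_mem _⟩
  obtain ⟨k, hk⟩ : ∃ k, Nat.find hex = k + 1 := by
    rcases h0 : Nat.find hex with _ | k
    · have := Nat.find_spec hex
      rw [h0, pow_zero, pow_one] at this
      exact absurd this hY
    · exact ⟨k, rfl⟩
  have hmv : c.f (y ^ 2 ^ k) ∉ normalizer (c.A : Set X) := Nat.find_min hex (by omega)
  have hfix : c.f (y ^ 2 ^ k * y ^ 2 ^ k) ∈ normalizer (c.A : Set X) := by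
    have := Nat.find_spec hex
    rwa [hk, pow_succ, pow_mul, pow_two] at this
  have hY2 : IsTwoElem (c.f y) := hy2.map c.f
  have hAK : ∀ a ∈ c.A, a ∈ compKer X := fun a ha => component_le_compKer c.legA.comp ha
  by_cases h1 : y ^ 2 ^ k * y ^ 2 ^ k = 1
  · -- `t` itself moves `A`
    exfalso
    have hyk1 : y ^ 2 ^ k ≠ 1 := fun e => hmv (by rw [e, map_one]; exact one_mem _)
    have hk0 : k ≠ 0 := fun e => hsq (by rwa [e, pow_zero, pow_one] at h1)
    have hyt : y ^ 2 ^ k = c.t := by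
      have hB : c.g (y ^ 2 ^ k) ∈ c.B := by rw [map_pow]; exact pow_mem hyB _
      rcases c.legB.invol _ hB (by rw [← map_mul, h1, map_one]) with e | e
      · exact absurd (c.gker_two (hy2.pow _) e) hyk1
      · exact c.g_inj (hy2.pow _) c.t_two (c.tc _).symm e
    rw [hyt] at hmv
    have hodd : c.f c.t * c.f y ∉ normalizer (c.A : Set X) := by
      intro e
      apply hY
      refine mem_of_odd_pow (m := 2 ^ k + 1) hY2 ((Nat.even_pow.2 ⟨even_two, hk0⟩).add_one) ?_
      rwa [pow_succ, ← map_pow, hyt]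
    have hTi := c.ft_inv
    have hcT : ∀ {a b : X}, a ∈ c.A → b ∈ c.A → Commute a (c.f c.t * b * c.f c.t) := fun ha hb => by
      have := c.legA.commute_of_moved hmv ha hb
      rwa [hTi] at this
    let δ : c.A →* X := MonoidHom.mk' (fun a => (a : X) * (c.f c.t * a * c.f c.t)) (fun a b => by
      show (a : X) * b * (c.f c.t * ((a : X) * b) * c.f c.t) =
        (a : X) * (c.f c.t * a * c.f c.t) * ((b : X) * (c.f c.t * b * c.f c.t))
      calc (a : X) * b * (c.f c.t * ((a : X) * b) * c.f c.t)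
          = (a : X) * ((b : X) * (c.f c.t * a * (c.f c.t)⁻¹)) * (c.f c.t * b * c.f c.t) := by group
        _ = (a : X) * (c.f c.t * a * c.f c.t) * ((b : X) * (c.f c.t * b * c.f c.t)) := by
            rw [hTi, (hcT b.2 a.2).eq]; group)
    refine hY (mem_compKer.1 (c.no_diag hAB hyB hy2 δ ?_ ?_ ?_ ?_) _ c.legA.comp)
    · intro a ha
      refine c.legA.eq_of_mem_both hmv a.2 ?_
      have ha' : (a : X) * (c.f c.t * a * c.f c.t) = 1 := ha
      rw [eq_inv_of_mul_eq_one_left ha', inv_mem_iff]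
      have := conj_mem_cj (x := c.f c.t) a.2
      rwa [hTi] at this
    · intro a
      show (a : X) * (c.f c.t * a * c.f c.t) * c.f c.t = c.f c.t * ((a : X) * (c.f c.t * a * c.f c.t))
      rw [show c.f c.t * ((a : X) * (c.f c.t * a * c.f c.t)) = c.f c.t * a * c.f c.t * a * c.f c.t by group,
        (hcT a.2 a.2).eq]
    · intro a
      haveI := compKer_normal (X := X)
      refine mul_mem (hAK a a.2) ?_
      have := (inferInstance : (compKer X).Normal).conj_mem _ (hAK a a.2) (c.f c.t)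
      rwa [hTi] at this
    · intro a b
      have hty := c.ft_comm y
      have h4 : ∀ {a b : X}, a ∈ c.A → b ∈ c.A →
          Commute (c.f y * (a * (c.f c.t * a * c.f c.t)) * (c.f y)⁻¹) (b * (c.f c.t * b * c.f c.t)) := by
        intro a b ha hb
        have g1 : Commute (c.f y * a * (c.f y)⁻¹) b := (c.legA.commute_of_moved hY hb ha).symm
        have g2 : Commute (c.f y * (c.f c.t * a * c.f c.t) * (c.f y)⁻¹) b := by
          have hn : c.f y * c.f c.t ∉ normalizer (c.A : Set X) := by rwa [← hty.eq]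
          have := (c.legA.commute_of_moved hn hb ha).symm
          rwa [show c.f y * c.f c.t * a * (c.f y * c.f c.t)⁻¹ =
            c.f y * (c.f c.t * a * (c.f c.t)⁻¹) * (c.f y)⁻¹ by group, hTi] at this
        have conjT : ∀ {p q : X}, Commute (c.f c.t * p * (c.f c.t)⁻¹) q →
            Commute p (c.f c.t * q * (c.f c.t)⁻¹) := by
          intro p q h
          have := h.map (MulAut.conj (c.f c.t)).toMonoidHom
          simp only [MulEquiv.coe_toMonoidHom, MulAut.conj_apply] at this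
          rwa [show c.f c.t * (c.f c.t * p * (c.f c.t)⁻¹) * (c.f c.t)⁻¹ =
            (c.f c.t * c.f c.t) * p * (c.f c.t * c.f c.t)⁻¹ by group, c.ft_sq, inv_one, mul_one, one_mul] at this
        have g3 : Commute (c.f y * a * (c.f y)⁻¹) (c.f c.t * b * c.f c.t) := by
          have := conjT (p := c.f y * a * (c.f y)⁻¹) (q := b) (by
            rw [show c.f c.t * (c.f y * a * (c.f y)⁻¹) * (c.f c.t)⁻¹ =
              (c.f c.t * c.f y) * a * (c.f c.t * c.f y)⁻¹ by group]
            exact (c.legA.commute_of_moved hodd hb ha).symm)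
          rwa [hTi] at this
        have g4 : Commute (c.f y * (c.f c.t * a * c.f c.t) * (c.f y)⁻¹) (c.f c.t * b * c.f c.t) := by
          have := g1.map (MulAut.conj (c.f c.t)).toMonoidHom
          simp only [MulEquiv.coe_toMonoidHom, MulAut.conj_apply] at this
          rwa [show c.f c.t * (c.f y * a * (c.f y)⁻¹) * (c.f c.t)⁻¹ =
            (c.f c.t * c.f y) * a * (c.f c.t * c.f y)⁻¹ by group, hty.eq,
            show c.f y * c.f c.t * a * (c.f y * c.f c.t)⁻¹ =
            c.f y * (c.f c.t * a * (c.f c.t)⁻¹) * (c.f y)⁻¹ by group, hTi] at this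
        have := (g1.mul_right g3).mul_left (g2.mul_right g4)
        rwa [show c.f y * a * (c.f y)⁻¹ * (c.f y * (c.f c.t * a * c.f c.t) * (c.f y)⁻¹) =
          c.f y * (a * (c.f c.t * a * c.f c.t)) * (c.f y)⁻¹ by group] at this
      exact ⟨h4 a.2 b.2, h4 a.2 a.2⟩
  · have hy' : Moved c (y ^ 2 ^ k) := ⟨by rw [map_pow]; exact pow_mem hyB _, hy2.pow _, h1, hmv, hfix⟩
    exact hy'.exit hlink

end CfsgLib.TwinComp
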