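import Cfsg.Agent.Comp.Basic
import Cfsg.Agent.Invol.Dihedral
import Mathlib.GroupTheory.Sylow

/-!
Components containing exactly one involution, a central one (think of `SL₂(q)`, `q` odd, or the double
cover of `A₇`): elementary lemmas used for the exchange property of such components.

Conjugation is always written on the left, `x a x⁻¹`.
-/

set_option autoImplicit false

namespace CfsgLib.TwinComp

open Subgroup

variable {X : Type*} [Group X]

/-- A group of two-power torsion element. -/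
def IsTwoElem (x : X) : Prop := ∃ k : ℕ, x ^ 2 ^ k = 1

theorem IsTwoElem.one : IsTwoElem (1 : X) := ⟨0, by simp⟩

theorem IsTwoElem.of_sq {x : X} (h : x * x = 1) : IsTwoElem x := ⟨1, by rw [pow_one, pow_two, h]⟩

theorem IsTwoElem.of_orderOf_four {x : X} (h : orderOf x = 4) : IsTwoElem x :=
  ⟨2, by rw [show (2 : ℕ) ^ 2 = 4 by norm_num, ← h, pow_orderOf_eq_one]⟩

theorem IsTwoElem.map {Y : Type*} [Group Y] {x : X} (h : IsTwoElem x) (f : X →* Y) :
    IsTwoElem (f x) := by
  obtain ⟨k, hk⟩ := h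
  exact ⟨k, by rw [← map_pow, hk, map_one]⟩

theorem IsTwoElem.pow {x : X} (h : IsTwoElem x) (n : ℕ) : IsTwoElem (x ^ n) := by
  obtain ⟨k, hk⟩ := h
  exact ⟨k, by rw [← pow_mul, mul_comm, pow_mul, hk, one_pow]⟩

theorem IsTwoElem.mul {x y : X} (hx : IsTwoElem x) (hy : IsTwoElem y) (hc : Commute x y) :
    IsTwoElem (x * y) := by
  obtain ⟨k, hk⟩ := hx
  obtain ⟨l, hl⟩ := hy
  refine ⟨k + l, ?_⟩
  rw [hc.mul_pow, pow_add, pow_mul, hk, one_pow, one_mul, mul_comm, pow_mul, hl, one_pow]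

theorem IsTwoElem.inv {x : X} (h : IsTwoElem x) : IsTwoElem x⁻¹ := by
  obtain ⟨k, hk⟩ := h
  exact ⟨k, by rw [inv_pow, hk, inv_one]⟩

theorem IsTwoElem.conj {x : X} (h : IsTwoElem x) (g : X) : IsTwoElem (g * x * g⁻¹) := by
  obtain ⟨k, hk⟩ := h
  exact ⟨k, by rw [conj_pow, hk]; group⟩

theorem eq_one_of_two_of_odd {x : X} (h : IsTwoElem x) (ho : Odd (orderOf x)) : x = 1 := by
  obtain ⟨k, hk⟩ := h
  have hco : (orderOf x).Coprime (2 ^ k) := Nat.Coprime.pow_right _ ho.coprime_two_right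
  exact orderOf_eq_one_iff.1 (Nat.dvd_one.1 (hco.gcd_eq_one ▸ Nat.dvd_gcd dvd_rfl (orderOf_dvd_of_pow_eq_one hk)))

theorem odd_orderOf_of_mem {N : Subgroup X} (hN : Odd (Nat.card N)) {x : X} (hx : x ∈ N) :
    Odd (orderOf x) :=
  hN.of_dvd_nat (Subgroup.orderOf_dvd_natCard N hx)

theorem eq_one_of_two_of_mem {N : Subgroup X} (hN : Odd (Nat.card N)) {x : X} (hx : x ∈ N)
    (h : IsTwoElem x) : x = 1 :=
  eq_one_of_two_of_odd h (odd_orderOf_of_mem hN hx)

/-- An element whose odd power lies in a subgroup lies there, if it is a two-element. -/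
theorem mem_of_odd_pow {S : Subgroup X} {x : X} (h : IsTwoElem x) {m : ℕ} (hm : Odd m)
    (hxm : x ^ m ∈ S) : x ∈ S := by
  obtain ⟨k, hk⟩ := h
  have hco : Nat.Coprime m (2 ^ k) := Nat.Coprime.pow_right _ hm.coprime_two_right
  obtain ⟨j, hj⟩ := exists_pow_eq_self_of_coprime (x := x)
    (hco.coprime_dvd_right (orderOf_dvd_of_pow_eq_one hk))
  rw [← hj]
  exact pow_mem hxm j

/-- A two-element part: some odd power. -/
theorem exists_two_part [Finite X] (x : X) : ∃ m : ℕ, Odd m ∧ IsTwoElem (x ^ m) := by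
  obtain ⟨k, m, hm, he⟩ := Nat.exists_eq_two_pow_mul_odd (orderOf_pos x).ne'
  exact ⟨m, hm, k, by rw [← pow_mul, mul_comm, ← he, pow_orderOf_eq_one]⟩

/-- An element inverted by an involution in an odd subgroup moves the coset's representative to a
fixed one. -/
theorem exists_fixed_mul {N : Subgroup X} (hN : Odd (Nat.card N)) {t a : X} (ht : t * t = 1)
    (h : a⁻¹ * (t * a * t) ∈ N) : ∃ n ∈ N, t * (a * n) * t = a * n := by
  obtain ⟨v, hv⟩ : ∃ v, v = a⁻¹ * (t * a * t) := ⟨_, rfl⟩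
  obtain ⟨j, hj⟩ := odd_orderOf_of_mem hN h
  rw [← hv] at hj h
  have hinv : t * v * t = v⁻¹ := by
    rw [hv, mul_inv_rev, inv_inv, mul_inv_rev, mul_inv_rev, inv_eq_of_mul_eq_one_right ht]
    simp only [mul_assoc]
    rw [ht, mul_one]
  have hstep : ∀ i : ℕ, t * v ^ i * t = (v⁻¹) ^ i := by
    intro i
    induction i with
    | zero => simp [ht]
    | succ i ih =>
      rw [pow_succ, pow_succ, ← ih, ← hinv]
      simp only [mul_assoc]
      rw [← mul_assoc t t, ht, one_mul]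
  refine ⟨v ^ (j + 1), pow_mem h _, ?_⟩
  have h1 : t * a * t = a * v := by rw [hv, mul_inv_cancel_left]
  calc t * (a * v ^ (j + 1)) * t = (t * a * t) * (t * v ^ (j + 1) * t) := by
        simp only [mul_assoc]; rw [← mul_assoc t t, ht, one_mul]
    _ = a * (v * (v ^ (j + 1))⁻¹) := by rw [h1, hstep, inv_pow]; simp only [mul_assoc]
    _ = a * v ^ (j + 1) := by
      have e : v ^ (j + 1 + j) = 1 := by
        rw [show j + 1 + j = 2 * j + 1 by ring, ← hj, pow_orderOf_eq_one]
      congr 1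
      rw [mul_inv_eq_iff_eq_mul, ← pow_add, show j + 1 + (j + 1) = (j + 1 + j) + 1 by ring,
        pow_succ _ (j + 1 + j), e, one_mul]

/-- Conjugation of a subgroup. -/
def cj (x : X) (A : Subgroup X) : Subgroup X := A.map (MulAut.conj x).toMonoidHom

theorem mem_cj {x : X} {A : Subgroup X} {b : X} : b ∈ cj x A ↔ x⁻¹ * b * x ∈ A := by
  rw [cj, Subgroup.mem_map_equiv, MulAut.conj_symm_apply]

theorem conj_mem_cj {x : X} {A : Subgroup X} {a : X} (ha : a ∈ A) : x * a * x⁻¹ ∈ cj x A :=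
  ⟨a, ha, rfl⟩

theorem cj_eq_iff {x : X} {A : Subgroup X} : cj x A = A ↔ x ∈ normalizer (A : Set X) :=
  mem_normalizer_iff_map_conj_eq.symm

theorem cj_cj (x y : X) (A : Subgroup X) : cj x (cj y A) = cj (x * y) A := by
  rw [cj, cj, cj, Subgroup.map_map]
  congr 1
  ext a
  simp [MulAut.conj_apply, mul_assoc]

/-- `A` is a component with exactly one involution `z`, central in `X`, every element of order four
extends to a quaternion subgroup with an automorphism of order three from inside. -/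
structure Leg (A : Subgroup X) (z : X) : Prop where
  comp : Cfsg.IsComponent A
  mem : z ∈ A
  ne : z ≠ 1
  sq : z * z = 1
  cen : ∀ x : X, Commute z x
  invol : ∀ a ∈ A, a * a = 1 → a = 1 ∨ a = z
  centre : ∀ a ∈ A, (∀ b ∈ A, Commute a b) → a = 1 ∨ a = z
  four : ∀ y ∈ A, y * y = z → ∃ x ∈ A, ∃ g ∈ A, x * x = z ∧ x * y * x⁻¹ = y⁻¹ ∧
    (g * y * g⁻¹ = x ∨ g * y * g⁻¹ = x⁻¹) ∧ (g * x * g⁻¹ = x * y ∨ g * x * g⁻¹ = (x * y)⁻¹)

namespace Leg

variable {A : Subgroup X} {z : X} (hA : Leg A z)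
include hA

theorem inv_z : z⁻¹ = z := inv_eq_of_mul_eq_one_right hA.sq

theorem z_two : IsTwoElem z := IsTwoElem.of_sq hA.sq

theorem conj (x : X) : Leg (cj x A) z where
  comp := Comp.component_conj x hA.comp
  mem := mem_cj.2 (by rw [mul_assoc, (hA.cen x).eq, inv_mul_cancel_left]; exact hA.mem)
  ne := hA.ne
  sq := hA.sq
  cen := hA.cen
  invol := by
    rintro _ ⟨a, ha, rfl⟩ h
    rcases hA.invol a ha ((MulAut.conj x).injective (by rw [map_mul, map_one]; exact h)) with e | e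
    · exact Or.inl (by rw [e]; exact map_one _)
    · exact Or.inr (by rw [e]; show x * z * x⁻¹ = z; rw [← (hA.cen x).eq, mul_inv_cancel_right])
  centre := by
    rintro _ ⟨a, ha, rfl⟩ h
    rcases hA.centre a ha (fun b hb => Commute.of_map (f := (MulAut.conj x).toMonoidHom)
      (MulAut.conj x).injective (h _ (conj_mem_cj hb))) with e | e
    · exact Or.inl (by rw [e]; exact map_one _)
    · exact Or.inr (by rw [e]; show x * z * x⁻¹ = z; rw [← (hA.cen x).eq, mul_inv_cancel_right])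
  four := by
    rintro _ ⟨y, hy, rfl⟩ h
    have hz : (MulAut.conj x) z = z := by
      show x * z * x⁻¹ = z
      rw [← (hA.cen x).eq, mul_inv_cancel_right]
    obtain ⟨a, ha, g, hg, h1, h2, h3, h4⟩ := hA.four y hy ((MulAut.conj x).injective (by
      rw [map_mul, hz]; exact h))
    refine ⟨_, conj_mem_cj ha, _, conj_mem_cj hg, ?_, ?_, ?_, ?_⟩
    · show (MulAut.conj x) a * (MulAut.conj x) a = z
      rw [← map_mul, h1, hz]
    · show (MulAut.conj x) a * (MulAut.conj x) y * ((MulAut.conj x) a)⁻¹ = ((MulAut.conj x) y)⁻¹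
      rw [← map_inv, ← map_mul, ← map_mul, h2, map_inv]
    · show (MulAut.conj x) g * (MulAut.conj x) y * ((MulAut.conj x) g)⁻¹ = (MulAut.conj x) a ∨
        (MulAut.conj x) g * (MulAut.conj x) y * ((MulAut.conj x) g)⁻¹ = ((MulAut.conj x) a)⁻¹
      rw [← map_inv, ← map_mul, ← map_mul, ← map_inv]
      exact h3.imp (congrArg _) (congrArg _)
    · show (MulAut.conj x) g * (MulAut.conj x) a * ((MulAut.conj x) g)⁻¹ = (MulAut.conj x) a * (MulAut.conj x) y ∨
        (MulAut.conj x) g * (MulAut.conj x) a * ((MulAut.conj x) g)⁻¹ = ((MulAut.conj x) a * (MulAut.conj x) y)⁻¹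
      rw [← map_inv, ← map_mul, ← map_mul, ← map_mul, ← map_inv]
      exact h4.imp (congrArg _) (congrArg _)

/-- Elements of a different conjugate commute with those of `A`. -/
theorem commute_of_moved [Finite X] {v : X} (hv : v ∉ normalizer (A : Set X)) {a b : X} (ha : a ∈ A)
    (hb : b ∈ A) : Commute a (v * b * v⁻¹) := by
  rcases Comp.component_eq_or_commute hA.comp (hA.conj v).comp with h | h
  · exact absurd (cj_eq_iff.1 h.symm) hv
  · exact (mem_centralizer_iff.1 (commutator_eq_bot_iff_le_centralizer.1 h ha) _ (conj_mem_cj hb)).symm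

theorem eq_of_mem_both [Finite X] {v : X} (hv : v ∉ normalizer (A : Set X)) {a : X} (ha : a ∈ A)
    (ha' : a ∈ cj v A) : a = 1 ∨ a = z := by
  obtain ⟨b, hb, rfl⟩ := ha'
  exact hA.centre _ ha fun c hc => (hA.commute_of_moved hv hc hb).symm

/-- A conjugate which differs from a noncentral two-element of `A` by a factor of odd order stays
in `A`. -/
theorem fix_of_odd [Finite X] {v b n : X} (hb : b ∈ A) (h2 : IsTwoElem b) (hb1 : b ≠ 1) (hbz : b ≠ z)
    (hn : Odd (orderOf n)) (h : v * b * v⁻¹ = n * b) : v ∈ normalizer (A : Set X) := by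
  by_contra hv
  have hc : ∀ a ∈ A, Commute a (n * b) := fun a ha => h ▸ hA.commute_of_moved hv ha hb
  have hnb : Commute n b := by
    have h' : b * (n * b) = n * b * b := hc b hb
    rw [← mul_assoc] at h'
    exact (mul_right_cancel h').symm
  have hm : b ^ orderOf n ∈ A := pow_mem hb _
  have hz := hA.centre _ hm fun a ha => by
    have := (hc a ha).pow_right (orderOf n)
    rw [hnb.mul_pow, pow_orderOf_eq_one, one_mul] at this
    exact this.symm
  rcases hz with e | e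
  · exact hb1 (Subgroup.mem_bot.1 (mem_of_odd_pow (S := ⊥) h2 hn (Subgroup.mem_bot.2 e)))
  · have : b ∈ zpowers z := mem_of_odd_pow h2 hn (e ▸ mem_zpowers z)
    obtain ⟨i, rfl⟩ := mem_zpowers_iff.1 this
    rcases Int.even_or_odd i with ⟨j, rfl⟩ | ⟨j, rfl⟩
    · exact hb1 (by rw [← two_mul, zpow_mul, zpow_two, hA.sq, one_zpow])
    · exact hbz (by rw [zpow_add, zpow_mul, zpow_two, hA.sq, one_zpow, one_mul, zpow_one])

/-- An element of order four: its square is the involution. -/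
theorem exists_four {y : X} (hy : y ∈ A) (h2 : IsTwoElem y) (h1 : y ≠ 1) (hz : y ≠ z) :
    ∃ k : ℕ, (y ^ 2 ^ k) * (y ^ 2 ^ k) = z := by
  obtain ⟨n, hn⟩ := h2
  induction n generalizing y with
  | zero => exact absurd (by simpa using hn) h1
  | succ n ih =>
    by_cases hyy : y * y = 1
    · rcases hA.invol y hy hyy with e | e
      · exact absurd e h1
      · exact absurd e hz
    by_cases hyz : y * y = z
    · exact ⟨0, by rwa [pow_zero, pow_one]⟩
    obtain ⟨k, hk⟩ := ih (mul_mem hy hy) hyy hyz (by rw [← pow_two, ← pow_mul, ← pow_succ', hn])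
    refine ⟨k + 1, ?_⟩
    rwa [pow_succ', pow_mul, pow_two y]

theorem two_of_sq {a : X} (h : a * a = z) : IsTwoElem a :=
  ⟨2, by rw [show (2 : ℕ) ^ 2 = 2 * 2 by norm_num, pow_mul, pow_two a, h, pow_two, hA.sq]⟩

theorem ne_of_sq {a : X} (h : a * a = z) : a ≠ 1 ∧ a ≠ z := by
  refine ⟨fun e => hA.ne ?_, fun e => hA.ne ?_⟩
  · rw [← h, e, one_mul]
  · rw [e, hA.sq] at h; exact h.symm

/-- Anti-fixed or fixed: an involutory automorphism of a two-subgroup that moves something. -/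
theorem exists_anti {Q : Subgroup X} (hQA : Q ≤ A) (hQ : ∀ q ∈ Q, IsTwoElem q) {τ : X}
    (hτ : τ * τ = 1) (hτQ : ∀ q ∈ Q, τ * q * τ ∈ Q) (h : ∃ q ∈ Q, τ * q * τ ≠ q) :
    ∃ u ∈ Q, τ * u * τ = u * z := by
  obtain ⟨q, hq, hne⟩ := h
  set c := q⁻¹ * (τ * q * τ) with hc
  have hcQ : c ∈ Q := mul_mem (inv_mem hq) (hτQ q hq)
  have hinv : τ * c * τ = c⁻¹ := by
    rw [hc, mul_inv_rev, inv_inv, mul_inv_rev, mul_inv_rev, inv_eq_of_mul_eq_one_right hτ]
    simp only [mul_assoc]
    rw [hτ, mul_one]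
  by_cases h1 : c * c = 1
  · rcases hA.invol c (hQA hcQ) h1 with e | e
    · exact absurd (by rw [hc, inv_mul_eq_one] at e; exact e.symm) hne
    · exact ⟨q, hq, by rw [← e, hc, mul_inv_cancel_left]⟩
  obtain ⟨k, hk⟩ := hA.exists_four (hQA hcQ) (hQ c hcQ) (fun e => h1 (by rw [e, one_mul]))
    (fun e => h1 (by rw [e, hA.sq]))
  refine ⟨c ^ 2 ^ k, pow_mem hcQ _, ?_⟩
  have e : τ * c ^ 2 ^ k * τ = (τ * c * τ⁻¹) ^ 2 ^ k := by
    rw [conj_pow, inv_eq_of_mul_eq_one_right hτ]
  rw [e, inv_eq_of_mul_eq_one_right hτ, hinv, inv_pow, inv_eq_iff_mul_eq_one, ← mul_assoc, hk, hA.sq]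

end Leg

end CfsgLib.TwinComp
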