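import Cfsg.Agent.TwinComp.Basic

/-!
Two commuting involutions `z`, `t` seen through the odd-kernel maps of their common centralizer into
`C(z)/O(C(z))` and `C(t)/O(C(t))`.
-/

set_option autoImplicit false

namespace CfsgLib.TwinComp

open Subgroup
open scoped commutatorElement

/-- The kernel of the action on components. -/
def compKer (X : Type*) [Group X] : Subgroup X :=
  ⨅ (L : Subgroup X) (_ : Cfsg.IsComponent L), normalizer (L : Set X)

section compKer

variable {X : Type*} [Group X]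

theorem mem_compKer {x : X} :
    x ∈ compKer X ↔ ∀ L : Subgroup X, Cfsg.IsComponent L → x ∈ normalizer (L : Set X) := by
  simp [compKer, Subgroup.mem_iInf]

theorem component_le_compKer [Finite X] {L : Subgroup X} (hL : Cfsg.IsComponent L) : L ≤ compKer X :=
  fun _ hx => mem_compKer.2 fun _ hM =>
    Comp.layer_le_normalizer_component hM (Comp.component_le_layer hL hx)

theorem compKer_normal : (compKer X).Normal := ⟨fun n hn g => mem_compKer.2 fun L hL => by
  have h : n ∈ normalizer ((cj g⁻¹ L : Subgroup X) : Set X) :=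
    mem_compKer.1 hn _ (Comp.component_conj g⁻¹ hL)
  rw [← cj_eq_iff] at h ⊢
  have h' := congrArg (cj g) h
  rw [cj_cj, cj_cj, cj_cj, mul_inv_cancel] at h'
  rw [h']
  ext a
  simp [cj]⟩

end compKer

/-- The data. -/
structure Ctx (D X Y : Type*) [Group D] [Group X] [Group Y] where
  f : D →* X
  g : D →* Y
  z : D
  t : D
  A : Subgroup X
  B : Subgroup Y
  legA : Leg A (f z)
  legB : Leg B (g t)
  zc : ∀ d : D, Commute z d
  tc : ∀ d : D, Commute t d
  zz : z * z = 1
  tt : t * t = 1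
  hne : z ≠ t
  kerf : Odd (Nat.card f.ker)
  kerg : Odd (Nat.card g.ker)
  liftf : ∀ x : X, Commute x (f t) → ∃ d, f d = x
  liftg : ∀ y : Y, Commute y (g z) → ∃ d, g d = y

namespace Ctx

variable {D X Y : Type*} [Group D] [Group X] [Group Y] (c : Ctx D X Y)

/-- The two roles exchanged. -/
def symm : Ctx D Y X where
  f := c.g
  g := c.f
  z := c.t
  t := c.z
  A := c.B
  B := c.A
  legA := c.legB
  legB := c.legA
  zc := c.tc
  tc := c.zc
  zz := c.tt
  tt := c.zz
  hne := c.hne.symm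
  kerf := c.kerg
  kerg := c.kerf
  liftf := c.liftg
  liftg := c.liftf

theorem fker_two {d : D} (h : IsTwoElem d) (hd : c.f d = 1) : d = 1 :=
  eq_one_of_two_of_mem c.kerf (MonoidHom.mem_ker.2 hd) h

theorem gker_two {d : D} (h : IsTwoElem d) (hd : c.g d = 1) : d = 1 :=
  eq_one_of_two_of_mem c.kerg (MonoidHom.mem_ker.2 hd) h

theorem z_two : IsTwoElem c.z := IsTwoElem.of_sq c.zz

theorem t_two : IsTwoElem c.t := IsTwoElem.of_sq c.tt

theorem f_inj {a b : D} (ha : IsTwoElem a) (hb : IsTwoElem b) (hc : Commute a b) (h : c.f a = c.f b) :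
    a = b := by
  have := c.fker_two (ha.mul hb.inv hc.inv_right) (by rw [map_mul, map_inv, h, mul_inv_cancel])
  exact mul_inv_eq_one.1 this

theorem g_inj {a b : D} (ha : IsTwoElem a) (hb : IsTwoElem b) (hc : Commute a b) (h : c.g a = c.g b) :
    a = b := c.symm.f_inj ha hb hc h

theorem ft_sq : c.f c.t * c.f c.t = 1 := by rw [← map_mul, c.tt, map_one]

theorem ft_inv : (c.f c.t)⁻¹ = c.f c.t := inv_eq_of_mul_eq_one_right c.ft_sq

theorem ft_ne : c.f c.t ≠ c.f c.z := fun h =>
  c.hne (c.f_inj c.t_two c.z_two (c.tc c.z) h).symm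

theorem ft_ne_one : c.f c.t ≠ 1 := fun h =>
  c.legB.ne (by rw [c.fker_two c.t_two h, map_one])

theorem ft_comm (d : D) : Commute (c.f c.t) (c.f d) := (c.tc d).map c.f

/-- Two-element lifts. -/
theorem lift2 [Finite D] {x : X} (h : Commute x (c.f c.t)) (h2 : IsTwoElem x) :
    ∃ d, IsTwoElem d ∧ c.f d = x := by
  obtain ⟨d, hd⟩ := c.liftf x h
  obtain ⟨m, hm, hdm⟩ := exists_two_part d
  have hx : x ∈ zpowers (c.f (d ^ m)) :=
    mem_of_odd_pow h2 hm (by rw [map_pow, hd]; exact mem_zpowers _)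
  obtain ⟨i, hi⟩ := mem_zpowers_iff.1 hx
  refine ⟨(d ^ m) ^ i, ?_, by rw [map_zpow, hi]⟩
  obtain ⟨k, hk⟩ := hdm
  exact ⟨k, by rw [← zpow_natCast, ← zpow_mul, mul_comm, zpow_mul, zpow_natCast, hk, one_zpow]⟩

/-- An involution of `A` fixed by the structure: only `f z`. -/
theorem ft_not_mem : c.f c.t ∉ c.A := fun h => by
  rcases c.legA.invol _ h c.ft_sq with e | e
  · exact c.ft_ne_one e
  · exact c.ft_ne e

/-- Square of an element of order four of `B` in `D`. -/
theorem sq_eq_t {y : D} (h2 : IsTwoElem y) (hy : c.g y * c.g y = c.g c.t) : y * y = c.t :=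
  c.g_inj (pow_two y ▸ h2.pow 2) c.t_two (c.tc _).symm (by rw [map_mul, hy])

end Ctx

end CfsgLib.TwinComp
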