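import Cfsg.Agent.TwinComp.Kernel

/-!
If `z` normalizes the component of `C(t)` then `t` normalizes that of `C(z)`: the group-theoretic steps
inside the common centralizer.
-/

set_option autoImplicit false
set_option linter.unusedSectionVars false
set_option linter.style.haveILetI false

namespace CfsgLib.TwinComp

open Subgroup
open scoped commutatorElement

section Small

variable {X : Type*} [Group X] [Finite X] {A : Subgroup X} {z : X}

/-- Conjugation by the normalizer. -/
abbrev act (A : Subgroup X) : ↥(normalizer (A : Set X)) →* MulAut ↥A := normalizerMonoidHom A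

theorem act_apply (A : Subgroup X) (n : ↥(normalizer (A : Set X))) (a : A) :
    ((act A n a : A) : X) = n * a * (n : X)⁻¹ := rfl

theorem act_eq_one {n : ↥(normalizer (A : Set X))} :
    act A n = 1 ↔ ∀ a ∈ A, Commute (n : X) a := by
  constructor
  · intro h a ha
    refine mul_inv_eq_iff_eq_mul.1 ?_
    show ((act A n ⟨a, ha⟩ : A) : X) = a
    rw [h]; rfl
  · intro h
    ext a
    rw [act_apply, (h a a.2).eq, mul_inv_cancel_right]
    rfl

theorem Leg.card_conj (hA : Leg A z) :
    2 * Nat.card (MulAut.conj (G := ↥A)).range = Nat.card A := by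
  classical
  have hk : Nat.card (MulAut.conj (G := ↥A)).ker = 2 := by
    rw [Nat.card_eq_two_iff]
    have hz : (⟨z, hA.mem⟩ : A) ∈ (MulAut.conj (G := ↥A)).ker := MonoidHom.mem_ker.2 (by
      ext a
      show z * a * z⁻¹ = a
      rw [(hA.cen _).eq, mul_inv_cancel_right])
    refine ⟨1, ⟨_, hz⟩, fun e => hA.ne (congrArg (fun x : (MulAut.conj (G := ↥A)).ker => ((x : A) : X)) e).symm, ?_⟩
    rw [Set.eq_univ_iff_forall]
    rintro ⟨a, ha⟩
    have hc : ∀ b ∈ A, Commute (a : X) b := fun b hb => by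
      have := congrArg (fun φ : MulAut A => ((φ ⟨b, hb⟩ : A) : X)) (MonoidHom.mem_ker.1 ha)
      exact mul_inv_eq_iff_eq_mul.1 this
    rcases hA.centre a a.2 hc with e | e
    · exact Or.inl (Subtype.ext (Subtype.ext e))
    · exact Or.inr (Subtype.ext (Subtype.ext e))
  rw [← Subgroup.index_ker, ← hk]
  exact Subgroup.card_mul_index _

/-- A group acting on `A` and centralizing a nontrivial automorphism has no simple quotient of order
`|A|/2`. -/
theorem Leg.no_quotient (hA : Leg A z) (haut : 4 * Nat.card (MulAut ↥A) < Nat.card A * Nat.card A)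
    {H Q : Type*} [Group H] [Finite H] [Group Q] (ρ : H →* MulAut ↥A) {τ : MulAut ↥A} (hτ : τ ≠ 1)
    (hcomm : ∀ h, Commute (ρ h) τ) (π : H →* Q) (hπ : Function.Surjective π) (hker : ρ.ker ≤ π.ker)
    (hQ : ∀ N : Subgroup Q, N.Normal → N = ⊥ ∨ N = ⊤) (hcard : 2 * Nat.card Q = Nat.card A) : False := by
  classical
  haveI : Finite Q := Finite.of_surjective π hπ
  haveI : Finite (MulAut ↥A) := Finite.of_injective _ (DFunLike.coe_injective (F := MulAut ↥A))
  haveI : Group.IsPerfect A := hA.comp.2.1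
  set I := (MulAut.conj (G := ↥A)).range with hI
  have hIn : I.Normal := by
    refine ⟨fun φ hφ ψ => ?_⟩
    obtain ⟨a, rfl⟩ := hφ
    refine ⟨ψ a, ?_⟩
    ext b
    simp [MulAut.conj_apply, map_mul, map_inv]
  have hIcard : 2 * Nat.card I = Nat.card A := hA.card_conj
  rcases hQ ((I.comap ρ).map π) ((inferInstance : (I.comap ρ).Normal).map π hπ) with e | e
  · -- then `Q` is a quotient of outer automorphisms
    have h1 : Nat.card Q ≤ (I.comap ρ).index := by
      have : I.comap ρ ≤ π.ker := fun h hh => by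
        have hm : π h ∈ (I.comap ρ).map π := ⟨h, hh, rfl⟩
        rw [e] at hm
        exact MonoidHom.mem_ker.2 (Subgroup.mem_bot.1 hm)
      calc Nat.card Q = π.ker.index := by
            rw [Subgroup.index_ker, MonoidHom.range_eq_top.2 hπ, Subgroup.card_top]
        _ ≤ (I.comap ρ).index := Nat.le_of_dvd (Nat.pos_of_ne_zero Subgroup.index_ne_zero_of_finite)
            (Subgroup.index_dvd_of_le this)
    have h2 : (I.comap ρ).index ≤ I.index := by
      rw [Subgroup.index_comap]
      exact Nat.le_of_dvd (Nat.pos_of_ne_zero Subgroup.index_ne_zero_of_finite)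
        (Subgroup.relIndex_dvd_index_of_normal I ρ.range)
    have h3 := I.card_mul_index
    have : Nat.card A * Nat.card A ≤ 4 * Nat.card (MulAut ↥A) := by
      rw [← h3, ← hIcard]
      calc 2 * Nat.card I * (2 * Nat.card I) = 2 * Nat.card I * (2 * Nat.card Q) := by rw [hcard, hIcard]
        _ = 4 * (Nat.card I * Nat.card Q) := by ring
        _ ≤ 4 * (Nat.card I * I.index) := by gcongr; exact h1.trans h2
    omega
  · -- then `Q` is a quotient of a proper subgroup of inner automorphisms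
    set N := I.comap ρ
    let φ : N →* Q := π.comp N.subtype
    let ψ : N →* MulAut ↥A := ρ.comp N.subtype
    have hφ : φ.range = ⊤ := by
      rw [MonoidHom.range_comp, Subgroup.range_subtype]; exact e
    have h1 : Nat.card Q ≤ Nat.card ψ.range := by
      rw [← Subgroup.card_top (G := Q), ← hφ, ← Subgroup.index_ker, ← Subgroup.index_ker]
      exact Nat.le_of_dvd (Nat.pos_of_ne_zero Subgroup.index_ne_zero_of_finite)
        (Subgroup.index_dvd_of_le fun n hn => MonoidHom.mem_ker.2 (MonoidHom.mem_ker.1 (hker hn)))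
    have hlt : ψ.range < I := by
      refine lt_of_le_of_ne (by rintro _ ⟨n, rfl⟩; exact n.2) fun heq => hτ ?_
      have hall : ∀ a : A, Commute (MulAut.conj a) τ := fun a => by
        obtain ⟨n, hn⟩ : MulAut.conj a ∈ ψ.range := heq ▸ ⟨a, rfl⟩
        rw [← hn]; exact hcomm n
      -- `a ↦ a⁻¹ (τ a)` maps to the centre
      have hcent : ∀ a : A, a⁻¹ * τ a ∈ center A := fun a => by
        rw [mem_center_iff]
        intro b
        have h0 := DFunLike.congr_fun (hall a).eq (τ.symm b)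
        simp only [MulAut.mul_apply, MulEquiv.apply_symm_apply, MulAut.conj_apply, map_mul, map_inv] at h0
        calc b * (a⁻¹ * τ a) = a⁻¹ * (a * b * a⁻¹) * τ a := by group
          _ = a⁻¹ * τ a * b := by rw [h0]; group
      ext a
      have hhom : ∀ a : A, τ a = a := by
        let h : A →* ↥(center A) := MonoidHom.mk' (fun a => ⟨a⁻¹ * τ a, hcent a⟩) (fun a b => Subtype.ext (by
          show (a * b)⁻¹ * τ (a * b) = a⁻¹ * τ a * (b⁻¹ * τ b)
          rw [map_mul, mul_inv_rev, mul_assoc b⁻¹, ← mul_assoc a⁻¹, ← mul_assoc b⁻¹,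
            mem_center_iff.1 (hcent a) b⁻¹, mul_assoc]))
        intro a
        have : a ∈ h.ker := by
          have hle : commutator ↥A ≤ h.ker := by
            rw [_root_.commutator_def, Subgroup.commutator_le]
            intro p _ q _
            rw [MonoidHom.mem_ker, map_commutatorElement, commutatorElement_eq_one_iff_mul_comm]
            exact Subtype.ext (mem_center_iff.1 (h q).2 _)
          rw [Group.IsPerfect.commutator_eq_top] at hle
          exact hle (mem_top a)
        exact (inv_mul_eq_one.1 (congrArg Subtype.val (MonoidHom.mem_ker.1 this))).symm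
      exact congrArg Subtype.val (hhom a)
    have := Solvable.card_lt_of_lt hlt
    omega

end Small

variable {D X Y : Type*} [Group D] [Group X] [Group Y] [Finite D] [Finite X] [Finite Y] (c : Ctx D X Y)

theorem Leg.simple_range {A : Subgroup X} {z : X} (hA : Leg A z) {Q : Type*} [Group Q] (δ : A →* Q)
    (hδ : ∀ a ∈ center A, δ a = 1) (N : Subgroup ↥δ.range) (hN : N.Normal) : N = ⊥ ∨ N = ⊤ := by
  have hN' : (N.comap δ.rangeRestrict).Normal := inferInstance
  rcases Comp.quasisimple_normal hA.comp.2 hN' with e | e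
  · right
    rw [← map_comap_eq_self_of_surjective δ.rangeRestrict_surjective N, e,
      Subgroup.map_top_of_surjective _ δ.rangeRestrict_surjective]
  · left
    rw [eq_bot_iff]
    intro x hx
    obtain ⟨a, rfl⟩ := δ.rangeRestrict_surjective x
    exact Subgroup.mem_bot.2 (Subtype.ext (hδ a (e hx)))

/-- The element of the common centralizer acting as an inner involution on one side and trivially on
the other. -/
theorem Ctx.exists_central (hAB : Nat.card c.A = Nat.card c.B)
    (haut : 4 * Nat.card (MulAut ↥c.B) < Nat.card c.B * Nat.card c.B)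
    (hT : c.f c.t ∉ normalizer (c.A : Set X)) (hZ : c.g c.z ∈ normalizer (c.B : Set Y))
    (hfix : ∀ y : D, c.g y ∈ c.B → IsTwoElem y → y * y ≠ 1 → c.f y ∈ normalizer (c.A : Set X))
    (hlift : ∀ x ∈ c.B, x * x = c.g c.t → c.g c.z * x * (c.g c.z)⁻¹ = x * c.g c.t →
      ∃ ψ : MulAut D, ∀ d, c.g (ψ d) = x * c.g d * x⁻¹) :
    ∃ x ∈ c.B, x * x = c.g c.t ∧ c.g c.z * x * (c.g c.z)⁻¹ = x * c.g c.t ∧ ∃ i ∈ c.A, i * i = c.f c.z ∧
      ∃ d : D, d * d = 1 ∧ c.f d = i * (c.f c.t * i * c.f c.t) ∧ ∀ b ∈ c.B, Commute (c.g d) b := by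
  classical
  have hTT := c.ft_sq
  have hTi := c.ft_inv
  -- the anti-fixed element
  obtain ⟨x, hx, hxx, hanti⟩ : ∃ x ∈ c.B, x * x = c.g c.t ∧ c.g c.z * x * (c.g c.z)⁻¹ = x * c.g c.t := by
    obtain ⟨Q, p, q, hQ, hQinv⟩ := exists_qdata c.legB (c.z_two.map c.g) hZ
    have hzz : c.g c.z * c.g c.z = 1 := by rw [← map_mul, c.zz, map_one]
    have hzi : (c.g c.z)⁻¹ = c.g c.z := inv_eq_of_mul_eq_one_right hzz
    have hmoved : c.g c.z * p * c.g c.z ≠ p := by
      intro e
      have hcp : Commute p (c.g c.z) := by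
        show p * c.g c.z = c.g c.z * p
        conv_lhs => rw [← e]
        rw [mul_assoc (c.g c.z * p), hzz, mul_one]
      obtain ⟨y, hy2, hy⟩ := c.symm.lift2 hcp (hQ.two p hQ.p_mem)
      replace hy : c.g y = p := hy
      have hyt : y * y = c.t := c.sq_eq_t hy2 (by rw [hy, hQ.pp])
      have := hfix y (hy ▸ hQ.le hQ.p_mem) hy2 (fun e' => c.legB.ne (by rw [← hyt, e', map_one]))
      exact hT (by rw [← hyt, map_mul]; exact mul_mem this this)
    obtain ⟨u, hu, huu, hanti⟩ := exists_anti_four c.legB hQ.le hQ.two hzz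
      (fun a ha => by have := hQinv a ha; rwa [hzi] at this) hQ.p_mem hQ.pp hmoved
    exact ⟨u, hu, huu, by rw [hzi]; exact hanti⟩
  refine ⟨x, hx, hxx, hanti, ?_⟩
  obtain ⟨ψ, hψ⟩ := hlift x hx hxx hanti
  -- the diagonal copy
  have hcA : ∀ {a b : X}, a ∈ c.A → b ∈ c.A → Commute a (c.f c.t * b * c.f c.t) := fun ha hb => by
    have := c.legA.commute_of_moved hT ha hb
    rwa [hTi] at this
  let δ : c.A →* X := MonoidHom.mk' (fun a => (a : X) * (c.f c.t * a * c.f c.t)) (fun a b => by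
    show (a : X) * b * (c.f c.t * ((a : X) * b) * c.f c.t) =
      (a : X) * (c.f c.t * a * c.f c.t) * ((b : X) * (c.f c.t * b * c.f c.t))
    calc (a : X) * b * (c.f c.t * ((a : X) * b) * c.f c.t)
        = (a : X) * ((b : X) * (c.f c.t * a * (c.f c.t)⁻¹)) * (c.f c.t * b * c.f c.t) := by group
      _ = (a : X) * (c.f c.t * a * c.f c.t) * ((b : X) * (c.f c.t * b * c.f c.t)) := by
          rw [hTi, (hcA b.2 a.2).eq]; group)
  have hδz : ∀ a ∈ center c.A, δ a = 1 := by
    intro a ha
    rcases c.legA.centre a a.2 (fun b hb => (congrArg Subtype.val (mem_center_iff.1 ha ⟨b, hb⟩)).symm)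
      with e | e
    · rw [show a = 1 from Subtype.ext e, map_one]
    · show (a : X) * (c.f c.t * a * c.f c.t) = 1
      rw [e, ← (c.legA.cen (c.f c.t)).eq, mul_assoc (c.f c.z), hTT, mul_one, c.legA.sq]
  have hδk : ∀ a, δ a = 1 → a ∈ center c.A := by
    intro a ha
    have ha' : (a : X) * (c.f c.t * a * c.f c.t) = 1 := ha
    have hmem : (a : X) ∈ cj (c.f c.t) c.A := by
      rw [eq_inv_of_mul_eq_one_left ha', inv_mem_iff]
      have := conj_mem_cj (x := c.f c.t) a.2
      rwa [hTi] at this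
    rw [mem_center_iff]
    intro b
    rcases c.legA.eq_of_mem_both hT a.2 hmem with e | e <;> refine Subtype.ext ?_
    · show (b : X) * a = a * b
      rw [e, one_mul, mul_one]
    · show (b : X) * a = a * b
      rw [e]; exact (c.legA.cen _).eq.symm
  have hfull : ∀ M : Subgroup c.A, M.Normal → (∃ a ∈ M, δ a ≠ 1) → M = ⊤ := fun M hM ⟨a, ha, hne⟩ =>
    (Comp.quasisimple_normal c.legA.comp.2 hM).resolve_right fun e => hne (hδz a (e ha))
  haveI : Group.IsPerfect c.A := c.legA.comp.2.1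
  have hnontriv : ∃ a, δ a ≠ 1 := by
    by_contra h
    push Not at h
    exact Comp.quasisimple_center_ne_top c.legA.comp.2 (eq_top_iff.2 fun a _ => hδk a (h a))
  set P : Subgroup D := δ.range.comap c.f with hP
  have lift : ∀ a, ∃ p ∈ P, c.f p = δ a := fun a => by
    have hcomm : Commute (δ a) (c.f c.t) := by
      show (a : X) * (c.f c.t * a * c.f c.t) * c.f c.t = c.f c.t * ((a : X) * (c.f c.t * a * c.f c.t))
      rw [show c.f c.t * ((a : X) * (c.f c.t * a * c.f c.t)) = c.f c.t * a * c.f c.t * a * c.f c.t by group,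
        (hcA a.2 a.2).eq]
    obtain ⟨p, hp⟩ := c.liftf (δ a) hcomm
    exact ⟨p, show c.f p ∈ δ.range from hp ▸ ⟨a, rfl⟩, hp⟩
  haveI := compKer_normal (X := Y)
  set N0 : Subgroup D := (compKer Y).comap c.g with hN0
  haveI : N0.Normal := inferInstance
  set R1 : Subgroup D := P ⊓ (normalizer (c.B : Set Y)).comap c.g with hR1
  -- conjugation by lifts
  have hnormal : ∀ R : Subgroup D, (∀ a, ∃ p : D, c.f p = δ a ∧ ∀ r ∈ R, p * r * p⁻¹ ∈ R) →
      ((R.map c.f).comap δ).Normal := fun R hR => ⟨fun n hn a => by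
    obtain ⟨r, hr, hre⟩ := hn
    obtain ⟨p, hp, hpR⟩ := hR a
    exact ⟨p * r * p⁻¹, hpR r hr, by rw [map_mul, map_mul, map_inv, hp, hre, map_mul, map_mul, map_inv]⟩⟩
  have cover : ∀ a, ∃ r ∈ R1, c.f r = δ a := by
    set M := ((P ⊓ N0).map c.f).comap δ
    have hM : M.Normal := hnormal _ fun a => by
      obtain ⟨p, hp, hpe⟩ := lift a
      exact ⟨p, hpe, fun r hr => ⟨P.mul_mem (P.mul_mem hp hr.1) (P.inv_mem hp),
        (inferInstance : N0.Normal).conj_mem r hr.2 p⟩⟩
    have hle : P ⊓ N0 ≤ R1 := inf_le_inf_left _ (comap_mono fun v hv => mem_compKer.1 hv _ c.legB.comp)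
    by_cases hex : ∃ a ∈ M, δ a ≠ 1
    · intro a
      obtain ⟨r, hr, hre⟩ : a ∈ M := hfull M hM hex ▸ mem_top a
      exact ⟨r, hle hr, hre⟩
    push Not at hex
    -- the kernel of the permutation action centralizes the diagonal
    have hcentral : ∀ n ∈ N0, ∀ a, Commute (c.f n) (δ a) := by
      intro n hn
      have hNc : ∀ p : D, ⁅n, p⁆ ∈ N0 := fun p => by
        rw [commutatorElement_def, show n * p * n⁻¹ * p⁻¹ = n * (p * n⁻¹ * p⁻¹) by group]
        exact mul_mem hn ((inferInstance : N0.Normal).conj_mem _ (inv_mem hn) p)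
      by_cases hin : cj (c.f n) c.A = c.A ∨ cj (c.f n) c.A = cj (c.f c.t) c.A
      · intro a
        obtain ⟨b, hb⟩ : c.f n * δ a * (c.f n)⁻¹ ∈ δ.range := by
          have hTn : ∀ v : X, c.f n * (c.f c.t * v * c.f c.t) * (c.f n)⁻¹ =
              c.f c.t * (c.f n * v * (c.f n)⁻¹) * c.f c.t := fun v => by
            rw [show c.f n * (c.f c.t * v * c.f c.t) * (c.f n)⁻¹ =
              (c.f n * c.f c.t) * v * (c.f c.t * (c.f n)⁻¹) by group, ← (c.ft_comm n).eq,
              (c.ft_comm n).inv_right.eq]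
            group
          have heq : c.f n * δ a * (c.f n)⁻¹ = (c.f n * a * (c.f n)⁻¹) *
              (c.f c.t * (c.f n * a * (c.f n)⁻¹) * c.f c.t) := by
            rw [← hTn]
            show c.f n * ((a : X) * (c.f c.t * a * c.f c.t)) * (c.f n)⁻¹ = _
            group
          rw [heq]
          rcases hin with e | e
          · exact ⟨⟨_, le_of_eq e (conj_mem_cj a.2)⟩, rfl⟩
          · obtain ⟨b, hb, hbe⟩ : c.f n * a * (c.f n)⁻¹ ∈ cj (c.f c.t) c.A := le_of_eq e (conj_mem_cj a.2)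
            have hbe' : c.f n * a * (c.f n)⁻¹ = c.f c.t * b * c.f c.t := by
              rw [← hbe]; show c.f c.t * b * (c.f c.t)⁻¹ = _; rw [hTi]
            refine ⟨⟨b, hb⟩, ?_⟩
            rw [hbe', show c.f c.t * (c.f c.t * b * c.f c.t) * c.f c.t =
              (c.f c.t * c.f c.t) * b * (c.f c.t * c.f c.t) by group, hTT, one_mul, mul_one]
            exact (hcA hb hb).eq
        obtain ⟨p, hp, hpe⟩ := lift a
        have hval : c.f ⁅n, p⁆ = δ (b * a⁻¹) := by
          rw [map_commutatorElement, hpe, commutatorElement_def, map_mul δ, map_inv, hb]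
        have := hex (b * a⁻¹) ⟨_, ⟨⟨_, hval.symm⟩, hNc p⟩, hval⟩
        rw [map_mul, map_inv, mul_inv_eq_one, hb] at this
        exact mul_inv_eq_iff_eq_mul.1 this
      · exfalso
        rw [not_or] at hin
        have hfar : ∀ a b : c.A, Commute (c.f n * δ a * (c.f n)⁻¹) (δ b) := by
          intro a b
          have hc1 : ∀ {p q : X}, p ∈ c.A → q ∈ c.A → Commute (c.f n * p * (c.f n)⁻¹) q := fun hp hq =>
            (c.legA.commute_of_moved (fun e => hin.1 (cj_eq_iff.2 e)) hq hp).symm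
          have hc2 : ∀ {p q : X}, p ∈ c.A → q ∈ c.A →
              Commute (c.f n * p * (c.f n)⁻¹) (c.f c.t * q * c.f c.t) := fun {p q} hp hq => by
            rcases Comp.component_eq_or_commute (c.legA.conj (c.f n)).comp (c.legA.conj (c.f c.t)).comp with e | e
            · exact absurd e hin.2
            · have hq' : c.f c.t * q * c.f c.t ∈ cj (c.f c.t) c.A := by
                have := conj_mem_cj (x := c.f c.t) hq
                rwa [hTi] at this
              exact (mem_centralizer_iff.1 (commutator_eq_bot_iff_le_centralizer.1 e (conj_mem_cj hp)) _ hq').symm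
          have hflip : ∀ {p q : X}, p ∈ c.A → q ∈ c.A →
              Commute (c.f n * (c.f c.t * p * c.f c.t) * (c.f n)⁻¹) q := fun {p q} hp hq => by
            have := (hc2 hp hq).map (MulAut.conj (c.f c.t)).toMonoidHom
            simp only [MulEquiv.coe_toMonoidHom, MulAut.conj_apply, hTi] at this
            rwa [show c.f c.t * (c.f c.t * q * c.f c.t) * c.f c.t = (c.f c.t * c.f c.t) * q * (c.f c.t * c.f c.t)
              by group, hTT, one_mul, mul_one,
              show c.f c.t * (c.f n * p * (c.f n)⁻¹) * c.f c.t = (c.f c.t * c.f n) * p * ((c.f n)⁻¹ * c.f c.t)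
              by group, (c.ft_comm n).eq, ← (c.ft_comm n).inv_right.eq,
              show c.f n * c.f c.t * p * (c.f c.t * (c.f n)⁻¹) = c.f n * (c.f c.t * p * c.f c.t) * (c.f n)⁻¹
              by group] at this
          have hflip2 : ∀ {p q : X}, p ∈ c.A → q ∈ c.A →
              Commute (c.f n * (c.f c.t * p * c.f c.t) * (c.f n)⁻¹) (c.f c.t * q * c.f c.t) := fun {p q} hp hq => by
            have := (hc1 hp hq).map (MulAut.conj (c.f c.t)).toMonoidHom
            simp only [MulEquiv.coe_toMonoidHom, MulAut.conj_apply, hTi] at this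
            rwa [show c.f c.t * (c.f n * p * (c.f n)⁻¹) * c.f c.t = (c.f c.t * c.f n) * p * ((c.f n)⁻¹ * c.f c.t)
              by group, (c.ft_comm n).eq, ← (c.ft_comm n).inv_right.eq,
              show c.f n * c.f c.t * p * (c.f c.t * (c.f n)⁻¹) = c.f n * (c.f c.t * p * c.f c.t) * (c.f n)⁻¹
              by group] at this
          have := ((hc1 a.2 b.2).mul_right (hc2 a.2 b.2)).mul_left ((hflip a.2 b.2).mul_right (hflip2 a.2 b.2))
          rwa [show c.f n * a * (c.f n)⁻¹ * (c.f n * (c.f c.t * a * c.f c.t) * (c.f n)⁻¹) =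
            c.f n * δ a * (c.f n)⁻¹ by
              show _ = c.f n * ((a : X) * (c.f c.t * a * c.f c.t)) * (c.f n)⁻¹
              group] at this
        obtain ⟨a₀, ha₀⟩ := hnontriv
        apply ha₀
        have : (⊤ : Subgroup c.A) ≤ δ.ker := by
          rw [← Group.IsPerfect.commutator_eq_top (G := c.A), _root_.commutator_def, Subgroup.commutator_le]
          intro a _ b _
          obtain ⟨p, -, hpe⟩ := lift a⁻¹
          obtain ⟨q, -, hqe⟩ := lift b
          have hval : c.f ⁅⁅n, p⁆, q⁆ = δ ⁅a, b⁆ := by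
            rw [map_commutatorElement, map_commutatorElement, hpe, hqe, map_inv, map_commutatorElement]
            have h1 := hfar a⁻¹ b
            rw [map_inv] at h1
            rw [commutatorElement_def (c.f n), commutatorElement_def, mul_inv_rev, inv_inv, commutatorElement_def]
            have h2 : Commute (c.f n * (δ a)⁻¹ * (c.f n)⁻¹) (δ a * δ b * (δ a)⁻¹) := by
              have h3 := hfar a⁻¹ a
              rw [map_inv] at h3
              exact (h3.mul_right h1).mul_right h3.inv_right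
            generalize c.f n * (δ a)⁻¹ * (c.f n)⁻¹ = w at h1 h2 ⊢
            calc w * δ a * δ b * ((δ a)⁻¹ * w⁻¹) * (δ b)⁻¹ = w * (δ a * δ b * (δ a)⁻¹) * w⁻¹ * (δ b)⁻¹ := by group
              _ = δ a * δ b * (δ a)⁻¹ * (δ b)⁻¹ := by rw [h2.eq]; group
          refine MonoidHom.mem_ker.2 (hex _ ⟨_, ⟨⟨_, hval.symm⟩, ?_⟩, hval⟩)
          rw [commutatorElement_def, show ⁅n, p⁆ * q * ⁅n, p⁆⁻¹ * q⁻¹ = ⁅n, p⁆ * (q * ⁅n, p⁆⁻¹ * q⁻¹) by group]
          exact mul_mem (hNc p) ((inferInstance : N0.Normal).conj_mem _ (inv_mem (hNc p)) q)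
        exact this (mem_top a₀)
    -- twisting by `ψ` is inverted by `ψ`
    let π := QuotientGroup.mk' (Cfsg.pPrimeCore 2 D)
    have hxK : x ∈ compKer Y := component_le_compKer c.legB.comp hx
    have hmem : ∀ p : D, ψ p * p⁻¹ ∈ N0 := fun p => by
      show c.g (ψ p * p⁻¹) ∈ compKer Y
      rw [map_mul, map_inv, hψ, show x * c.g p * x⁻¹ * (c.g p)⁻¹ = x * (c.g p * x⁻¹ * (c.g p)⁻¹) by group]
      exact mul_mem hxK ((inferInstance : (compKer Y).Normal).conj_mem _ (inv_mem hxK) _)
    have hπc : ∀ n ∈ N0, ∀ p ∈ P, Commute (π n) (π p) := by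
      rintro n hn p ⟨a, ha⟩
      show π n * π p = π p * π n
      rw [← map_mul, ← map_mul]
      exact mk_of_map c.f c.kerf (by rw [map_mul, map_mul, ← ha]; exact (hcentral n hn a).eq)
    have hψψ : ∀ p, π (ψ (ψ p)) = π p := fun p => mk_of_map c.g c.kerg (by
      rw [hψ, hψ, show x * (x * c.g p * x⁻¹) * x⁻¹ = (x * x) * c.g p * (x * x)⁻¹ by group, hxx,
        (c.legB.cen _).eq, mul_inv_cancel_right])
    have hinv : ∀ p, π (ψ (ψ p * p⁻¹)) = (π (ψ p * p⁻¹))⁻¹ := fun p => by
      simp only [map_mul, map_inv, mul_inv_rev, inv_inv, hψψ]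
    have hhom : ∀ p ∈ P, ∀ q, π (ψ (p * q) * (p * q)⁻¹) = π (ψ p * p⁻¹) * π (ψ q * q⁻¹) := by
      intro p hp q
      rw [show ψ (p * q) * (p * q)⁻¹ = ψ p * (ψ q * q⁻¹) * p⁻¹ by rw [map_mul]; group, map_mul, map_mul,
        map_mul π (ψ p) p⁻¹, map_inv, mul_assoc, ((hπc _ (hmem q) p hp).inv_right).eq, mul_assoc]
    have habel : ∀ p ∈ P, ∀ q ∈ P, Commute (π (ψ p * p⁻¹)) (π (ψ q * q⁻¹)) := by
      intro p hp q _
      have h1 : π (ψ ((ψ p * p⁻¹) * (ψ q * q⁻¹))) = (π (ψ (p * q) * (p * q)⁻¹))⁻¹ := by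
        rw [← hinv (p * q)]
        exact mk_aut ψ (by rw [map_mul, hhom p hp q])
      rw [map_mul, map_mul π, hinv, hinv, hhom p hp q, mul_inv_rev] at h1
      show π (ψ p * p⁻¹) * π (ψ q * q⁻¹) = π (ψ q * q⁻¹) * π (ψ p * p⁻¹)
      have := congrArg Inv.inv h1
      simpa using this.symm
    intro a
    have hN : ((R1.map c.f).comap δ) = ⊤ := by
      rw [eq_top_iff, ← Group.IsPerfect.commutator_eq_top (G := c.A), _root_.commutator_def,
        Subgroup.commutator_le]
      intro a _ b _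
      obtain ⟨p, hp, hpe⟩ := lift a
      obtain ⟨q, hq, hqe⟩ := lift b
      refine ⟨⁅p, q⁆, ⟨?_, ?_⟩, by rw [map_commutatorElement, hpe, hqe, map_commutatorElement]⟩
      · rw [commutatorElement_def]
        exact P.mul_mem (P.mul_mem (P.mul_mem hp hq) (P.inv_mem hp)) (P.inv_mem hq)
      · have hone : π (ψ ⁅p, q⁆ * ⁅p, q⁆⁻¹) = 1 := by
          have hz : π (ψ 1 * (1 : D)⁻¹) = 1 := by rw [map_one, inv_one, mul_one, map_one]
          have hi : ∀ v ∈ P, π (ψ v⁻¹ * v⁻¹⁻¹) = (π (ψ v * v⁻¹))⁻¹ := fun v hv => by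
            rw [eq_inv_iff_mul_eq_one, ← hhom _ (P.inv_mem hv) v, inv_mul_cancel, hz]
          rw [commutatorElement_def, hhom _ (P.mul_mem (P.mul_mem hp hq) (P.inv_mem hp)) q⁻¹,
            hhom _ (P.mul_mem hp hq) p⁻¹, hhom p hp q, hi p hp, hi q hq, (habel p hp q hq).eq,
            mul_inv_cancel_right, mul_inv_cancel]
        have hk : ψ ⁅p, q⁆ * ⁅p, q⁆⁻¹ ∈ Cfsg.pPrimeCore 2 D := (QuotientGroup.eq_one_iff _).1 hone
        have hodd : Odd (orderOf (c.g (ψ ⁅p, q⁆ * ⁅p, q⁆⁻¹))) :=
          (odd_orderOf_of_mem odd_card_core hk).of_dvd_nat (orderOf_map_dvd c.g _)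
        show c.g ⁅p, q⁆ ∈ normalizer (c.B : Set Y)
        obtain ⟨hb1, hb2⟩ := c.legB.ne_of_sq hxx
        rw [map_mul, map_inv, hψ] at hodd
        refine c.legB.fix_of_odd (b := x⁻¹)
          (n := x⁻¹ * (x * c.g ⁅p, q⁆ * x⁻¹ * (c.g ⁅p, q⁆)⁻¹) * x)
          (inv_mem hx) (c.legB.two_of_sq hxx).inv (fun e => hb1 (inv_eq_one.1 e))
          (fun e => hb2 (by rw [← inv_inv x, e, c.legB.inv_z])) ?_ (by group)
        have := MulEquiv.orderOf_eq (MulAut.conj x⁻¹) (x * c.g ⁅p, q⁆ * x⁻¹ * (c.g ⁅p, q⁆)⁻¹)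
        rw [MulAut.conj_apply, inv_inv] at this
        rw [this]
        exact hodd
    obtain ⟨r, hr, hre⟩ : a ∈ (R1.map c.f).comap δ := hN ▸ mem_top a
    exact ⟨r, hr, hre⟩
  -- action on the other component
  let gr : R1 →* ↥(normalizer (c.B : Set Y)) := (c.g.comp R1.subtype).codRestrict _ fun r => r.2.2
  let ρ : R1 →* MulAut ↥c.B := (act c.B).comp gr
  let φ : R1 →* ↥δ.range := (c.f.comp R1.subtype).codRestrict _ fun r => r.2.1
  have hφ : Function.Surjective φ := by
    rintro ⟨_, a, rfl⟩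
    obtain ⟨r, hr, hre⟩ := cover a
    exact ⟨⟨r, hr⟩, Subtype.ext hre⟩
  have hδcard : 2 * Nat.card δ.range = Nat.card c.B := by
    rw [← hAB, ← c.legA.card_conj, ← Subgroup.index_ker, ← Subgroup.index_ker,
      show δ.ker = (MulAut.conj (G := ↥c.A)).ker from ?_]
    ext a
    rw [MonoidHom.mem_ker, MonoidHom.mem_ker]
    constructor
    · intro h
      ext b
      show (a : X) * b * (a : X)⁻¹ = b
      rw [← show (b : X) * a = a * b from congrArg Subtype.val (mem_center_iff.1 (hδk a h) b),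
        mul_inv_cancel_right]
    · intro h
      refine hδz a (mem_center_iff.2 fun b => ?_)
      have := congrArg (fun e : MulAut c.A => e b) h
      exact (mul_inv_eq_iff_eq_mul.1 this).symm
  have hτ : act c.B ⟨c.g c.z, hZ⟩ ≠ 1 := fun e => by
    have := act_eq_one.1 e x hx
    rw [this.eq, mul_inv_cancel_right] at hanti
    exact c.legB.ne (mul_eq_left.1 hanti.symm)
  have hkfull : (ρ.ker.map φ) = ⊤ := by
    rcases c.legA.simple_range δ hδz _ ((inferInstance : ρ.ker.Normal).map φ hφ) with e | e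
    · exfalso
      refine c.legB.no_quotient haut ρ hτ (fun r => ?_) φ hφ ?_ (c.legA.simple_range δ hδz) hδcard
      · exact (show Commute (gr r) (⟨c.g c.z, hZ⟩ : ↥(normalizer (c.B : Set Y))) from
          Subtype.ext ((c.zc (r : D)).map c.g).symm.eq).map (act c.B)
      · intro r hr
        have hm : φ r ∈ ρ.ker.map φ := ⟨r, hr, rfl⟩
        rw [e] at hm
        exact MonoidHom.mem_ker.2 (Subgroup.mem_bot.1 hm)
    · exact e
  obtain ⟨i, hi, hii⟩ := c.legA.exists_sq
  refine ⟨i, hi, hii, ?_⟩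
  obtain ⟨r, hr, hre⟩ : (⟨δ ⟨i, hi⟩, ⟨_, rfl⟩⟩ : ↥δ.range) ∈ ρ.ker.map φ := hkfull ▸ mem_top _
  have hre' : c.f r = i * (c.f c.t * i * c.f c.t) := congrArg Subtype.val hre
  have hsq : i * (c.f c.t * i * c.f c.t) * (i * (c.f c.t * i * c.f c.t)) = 1 := by
    rw [← pow_two, (hcA hi hi).mul_pow, pow_two, pow_two, hii,
      show c.f c.t * i * c.f c.t * (c.f c.t * i * c.f c.t) = c.f c.t * (i * (c.f c.t * c.f c.t) * i) * c.f c.t
        by group, hTT, mul_one, hii, ← (c.legA.cen (c.f c.t)).eq, mul_assoc (c.f c.z), hTT, mul_one, c.legA.sq]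
  obtain ⟨m, hm, hd2⟩ := exists_two_part (r : D)
  have hfd : c.f ((r : D) ^ m) = i * (c.f c.t * i * c.f c.t) := by
    obtain ⟨j, rfl⟩ := hm
    rw [map_pow, hre', pow_succ, pow_mul, pow_two, hsq, one_pow, one_mul]
  refine ⟨(r : D) ^ m, c.fker_two (hd2.mul hd2 (Commute.refl _)) (by rw [map_mul, hfd, hsq]), hfd, ?_⟩
  intro b hb
  rw [map_pow]
  exact ((act_eq_one.1 (MonoidHom.mem_ker.1 hr)) b hb).pow_left m

/-- If `z` centralizes `B` then `t` centralizes `A`. -/
theorem Ctx.centralizes (hAB : Nat.card c.A = Nat.card c.B)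
    (haut : 4 * Nat.card (MulAut ↥c.A) < Nat.card c.A * Nat.card c.A)
    (hZ : ∀ b ∈ c.B, Commute (c.g c.z) b)
    (hfix : ∀ y : D, c.g y ∈ c.B → IsTwoElem y → y * y ≠ 1 → c.f y ∈ normalizer (c.A : Set X)) :
    ∀ a ∈ c.A, Commute (c.f c.t) a := by
  classical
  set S : Subgroup D := c.B.comap c.g ⊓ (normalizer (c.A : Set X)).comap c.f with hS
  let gS : S →* ↥c.B := (c.g.comp S.subtype).codRestrict _ fun s => s.2.1
  let fS : S →* ↥(normalizer (c.A : Set X)) := (c.f.comp S.subtype).codRestrict _ fun s => s.2.2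
  let ρ : S →* MulAut ↥c.A := (act c.A).comp fS
  -- every two-element of `B` of square not one comes from `S`
  have hbig : ∀ b : c.B, IsTwoElem (b : Y) → (b : Y) * b ≠ 1 → b ∈ gS.range := by
    intro b hb hbb
    obtain ⟨y, hy2, hy⟩ := c.symm.lift2 (x := (b : Y)) (hZ b b.2).symm hb
    replace hy : c.g y = b := hy
    have hsq : y * y ≠ 1 := fun e => hbb (by rw [← hy, ← map_mul, e, map_one])
    exact ⟨⟨y, show c.g y ∈ c.B from hy ▸ b.2, hfix y (hy ▸ b.2) hy2 hsq⟩, Subtype.ext hy⟩
  haveI : Group.IsPerfect c.B := c.legB.comp.2.1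
  have hg : Function.Surjective gS := by
    rw [← MonoidHom.range_eq_top]
    set C : Subgroup c.B := Subgroup.normalClosure {b | ∀ a : c.B, a * b * a⁻¹ ∈ gS.range}
    set M : Subgroup c.B := Subgroup.closure {b | IsTwoElem (b : Y) ∧ (b : Y) * b ≠ 1}
    have hM : M.Normal := by
      refine ⟨fun n hn a => ?_⟩
      have hle : M.map (MulAut.conj a).toMonoidHom ≤ M := by
        rw [MonoidHom.map_closure]
        refine closure_mono ?_
        rintro _ ⟨b, ⟨hb1, hb2⟩, rfl⟩
        refine ⟨hb1.conj (a : Y), fun e => hb2 ?_⟩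
        have e' : (a : Y) * ((b : Y) * b) * (a : Y)⁻¹ = 1 := by rw [← e]; show _ = (a : Y) * b * (a : Y)⁻¹ * ((a : Y) * b * (a : Y)⁻¹); group
        exact conj_eq_one_iff.1 e'
      exact hle ⟨n, hn, rfl⟩
    obtain ⟨b, hb, hbb⟩ := c.legB.exists_sq
    have hbM : (⟨b, hb⟩ : c.B) ∈ M :=
      subset_closure ⟨c.legB.two_of_sq hbb, fun e => c.legB.ne (hbb.symm.trans e)⟩
    rcases Comp.quasisimple_normal c.legB.comp.2 hM with e | e
    · rw [eq_top_iff, ← e]
      exact (Subgroup.closure_le _).2 fun b hb => hbig b hb.1 hb.2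
    · exfalso
      have hcb := mem_center_iff.1 (e hbM)
      obtain ⟨h1, h2⟩ := c.legB.ne_of_sq hbb
      rcases c.legB.centre b hb (fun a ha => (congrArg Subtype.val (hcb ⟨a, ha⟩)).symm) with r | r
      · exact h1 r
      · exact h2 r
  obtain ⟨st, hst⟩ := hg ⟨c.g c.t, c.legB.mem⟩
  have htS : c.t ∈ S := by
    refine ⟨c.legB.mem, ?_⟩
    obtain ⟨b, hb, hbb⟩ := c.legB.exists_sq
    obtain ⟨y, hy2, hy⟩ := c.symm.lift2 (x := b) (hZ b hb).symm (c.legB.two_of_sq hbb)
    replace hy : c.g y = b := hy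
    have hyt : y * y = c.t := c.sq_eq_t hy2 (by rw [hy, hbb])
    have := hfix y (hy ▸ hb) hy2 (fun e => c.legB.ne (by rw [← hyt, e, map_one]))
    show c.f c.t ∈ normalizer (c.A : Set X)
    rw [← hyt, map_mul]
    exact mul_mem this this
  suffices hone : ρ ⟨c.t, htS⟩ = 1 from fun a ha => act_eq_one.1 hone a ha
  by_contra hτ
  rcases Comp.quasisimple_normal c.legB.comp.2 ((inferInstance : ρ.ker.Normal).map gS hg) with e | e
  · obtain ⟨n, hn, hne⟩ : (⟨c.g c.t, c.legB.mem⟩ : c.B) ∈ ρ.ker.map gS := e ▸ mem_top _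
    apply hτ
    have hk : c.g ((n : D)⁻¹ * c.t) = 1 := by
      rw [map_mul, map_inv, show c.g (n : D) = c.g c.t from congrArg Subtype.val hne, inv_mul_cancel]
    have heq : ρ (n⁻¹ * ⟨c.t, htS⟩) = ρ ⟨c.t, htS⟩ := by
      rw [map_mul, map_inv, MonoidHom.mem_ker.1 hn, inv_one, one_mul]
    refine eq_one_of_two_of_odd (IsTwoElem.map ⟨1, Subtype.ext ?_⟩ ρ) ?_
    · rw [SubmonoidClass.coe_pow, OneMemClass.coe_one, pow_one, pow_two]; exact c.tt
    · show Odd (orderOf (ρ ⟨c.t, htS⟩))
      rw [← heq]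
      refine Odd.of_dvd_nat ?_ (orderOf_map_dvd ρ _)
      rw [← orderOf_injective S.subtype S.subtype_injective]
      exact odd_orderOf_of_mem c.kerg (MonoidHom.mem_ker.2 hk)
  · let π : S →* ↥(MulAut.conj (G := ↥c.B)).range := (MulAut.conj (G := ↥c.B)).rangeRestrict.comp gS
    have hπ : Function.Surjective π := (MulAut.conj (G := ↥c.B)).rangeRestrict_surjective.comp hg
    refine c.legA.no_quotient haut ρ hτ (fun s => ?_) π hπ ?_
      (c.legB.simple_range (MulAut.conj (G := ↥c.B)) fun b hb => ?_) ?_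
    · exact (show Commute s (⟨c.t, htS⟩ : S) from Subtype.ext (c.tc (s : D)).symm.eq).map ρ
    · intro s hs
      refine MonoidHom.mem_ker.2 (Subtype.ext ?_)
      show MulAut.conj (gS s) = 1
      ext b
      have := mem_center_iff.1 (e ⟨s, hs, rfl⟩) b
      show (gS s : Y) * b * (gS s : Y)⁻¹ = b
      rw [← show (b : Y) * gS s = gS s * b from congrArg Subtype.val this, mul_inv_cancel_right]
    · ext a
      show (b : Y) * a * (b : Y)⁻¹ = a
      rw [← show (a : Y) * b = b * a from congrArg Subtype.val (mem_center_iff.1 hb a), mul_inv_cancel_right]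
    · rw [hAB]; exact c.legB.card_conj

end CfsgLib.TwinComp
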