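import Cfsg.Agent.TwinComp.Anti
import Cfsg.Prelude.Def_CaseTheorems

/-!
Two-elements of a twin component on the `t`-side fix the component on the `z`-side.
-/

set_option autoImplicit false
set_option linter.unusedSectionVars false
set_option linter.style.haveILetI false

namespace CfsgLib.TwinComp

open Subgroup
open scoped commutatorElement

universe u

variable {G : Type u} [Group G]

/-- The centralizer of an element. -/
abbrev Cz (z : G) : Subgroup G := centralizer ({z} : Set G)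

/-- The map to the quotient of a centralizer by its odd core. -/
abbrev mk [Finite G] (z : G) : ↥(Cz z) →* ↥(Cz z) ⧸ Cfsg.oddCore ↥(Cz z) :=
  QuotientGroup.mk' (Cfsg.oddCore ↥(Cz z))

theorem mem_Cz {z g : G} : g ∈ Cz z ↔ Commute g z := mem_centralizer_singleton_iff

theorem self_mem_Cz (z : G) : z ∈ Cz z := mem_Cz.2 (Commute.refl z)

/-- The element itself, in its centralizer. -/
def zel (z : G) : ↥(Cz z) := ⟨z, self_mem_Cz z⟩

/-- Image of a subgroup in the quotient of a centralizer. -/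
abbrev img [Finite G] (J : Subgroup G) (z : G) : Subgroup (↥(Cz z) ⧸ Cfsg.oddCore ↥(Cz z)) :=
  (J.subgroupOf (Cz z)).map (mk z)

theorem conj_pow_invol {p q : G} (hp : p * p = 1) (hq : q * q = 1) (ho : Odd (orderOf (p * q))) :
    ∃ i : ℕ, (p * q) ^ i * p * ((p * q) ^ i)⁻¹ = q := by
  obtain ⟨m, hm⟩ := ho
  have hpi : p⁻¹ = p := inv_eq_of_mul_eq_one_right hp
  have hqi : q⁻¹ = q := inv_eq_of_mul_eq_one_right hq
  refine ⟨m, ?_⟩
  have h1 : p * ((p * q) ^ m)⁻¹ * p⁻¹ = (p * q) ^ m := by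
    rw [← inv_pow, ← conj_pow]
    congr 1
    rw [mul_inv_rev, hpi, hqi]
    simp only [mul_assoc]
    rw [hp, mul_one]
  calc (p * q) ^ m * p * ((p * q) ^ m)⁻¹ = (p * q) ^ m * (p * ((p * q) ^ m)⁻¹ * p⁻¹) * p := by group
    _ = (p * q) ^ (2 * m) * p := by rw [h1, ← pow_add, two_mul]
    _ = (p * q)⁻¹ * p := by
        congr 1
        rw [eq_inv_iff_mul_eq_one, ← pow_succ, ← hm, pow_orderOf_eq_one]
    _ = q := by rw [mul_inv_rev, hqi, inv_mul_cancel_right]

/-- An exact conjugating element over a congruence of involutions. -/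
theorem exists_adjust {H : Type*} [Group H] [Finite H] {N : Subgroup H} [N.Normal] (hN : Odd (Nat.card N))
    {a p q : H} (hp : p * p = 1) (hq : q * q = 1)
    (h : QuotientGroup.mk' N (a * p * a⁻¹) = QuotientGroup.mk' N q) :
    ∃ a', QuotientGroup.mk' N a' = QuotientGroup.mk' N a ∧ a' * p * a'⁻¹ = q ∧
      ∀ r, Commute (a * p * a⁻¹) r → Commute q r → Commute a⁻¹ a⁻¹ → Commute (a' * a⁻¹) r := by
  have hp' : a * p * a⁻¹ * (a * p * a⁻¹) = 1 := by
    rw [show a * p * a⁻¹ * (a * p * a⁻¹) = a * (p * p) * a⁻¹ by group, hp, mul_one, mul_inv_cancel]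
  have hmem : a * p * a⁻¹ * q ∈ N := by
    rw [← QuotientGroup.eq_one_iff, ← QuotientGroup.mk'_apply, map_mul, h, ← map_mul, hq, map_one]
  obtain ⟨i, hi⟩ := conj_pow_invol hp' hq (odd_orderOf_of_mem hN hmem)
  refine ⟨(a * p * a⁻¹ * q) ^ i * a, ?_, ?_, ?_⟩
  · rw [map_mul, show QuotientGroup.mk' N ((a * p * a⁻¹ * q) ^ i) = 1 from
      (QuotientGroup.eq_one_iff _).2 (pow_mem hmem i), one_mul]
  · conv_rhs => rw [← hi]
    group
  · intro r h1 h2 _
    rw [mul_inv_cancel_right]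
    exact (h1.mul_left h2).pow_left i

theorem exists_lift_comm {H : Type*} [Group H] {N : Subgroup H} [N.Normal] (hN : Odd (Nat.card N))
    {τ : H} (hτ : τ * τ = 1) {x : H ⧸ N} (hx : Commute x (QuotientGroup.mk' N τ)) :
    ∃ a, Commute a τ ∧ QuotientGroup.mk' N a = x := by
  obtain ⟨a, rfl⟩ := QuotientGroup.mk'_surjective N x
  have hmem : a⁻¹ * (τ * a * τ) ∈ N := by
    rw [← QuotientGroup.eq_one_iff, ← QuotientGroup.mk'_apply, map_mul, map_inv, map_mul, map_mul,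
      ← hx.eq, mul_assoc (QuotientGroup.mk' N a), ← map_mul, hτ, map_one, mul_one, inv_mul_cancel]
  obtain ⟨n, hn, h⟩ := exists_fixed_mul hN hτ hmem
  refine ⟨a * n, ?_, by rw [map_mul, show QuotientGroup.mk' N n = 1 from (QuotientGroup.eq_one_iff n).2 hn, mul_one]⟩
  show a * n * τ = τ * (a * n)
  conv_lhs => rw [← h]
  rw [mul_assoc (τ * (a * n)), hτ, mul_one]

/-- Conjugation as an automorphism of a subgroup it normalizes. -/
def conjSub (g : G) (H : Subgroup G) (h : ∀ a, a ∈ H ↔ g * a * g⁻¹ ∈ H) : MulAut ↥H where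
  toFun a := ⟨g * a * g⁻¹, (h a).1 a.2⟩
  invFun a := ⟨g⁻¹ * a * g, (h _).2 (by rw [show g * (g⁻¹ * a * g) * g⁻¹ = (a : G) by group]; exact a.2)⟩
  left_inv a := Subtype.ext (show g⁻¹ * (g * a * g⁻¹) * g = (a : G) by group)
  right_inv a := Subtype.ext (show g * (g⁻¹ * a * g) * g⁻¹ = (a : G) by group)
  map_mul' a b := Subtype.ext (show g * (a * b) * g⁻¹ = g * a * g⁻¹ * (g * b * g⁻¹) by group)

theorem conj_mem_Cz_iff {g s w a : G} (h : g * s * g⁻¹ = w) : a ∈ Cz s ↔ g * a * g⁻¹ ∈ Cz w := by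
  rw [mem_Cz, mem_Cz, ← h]
  constructor
  · intro ha
    exact ha.map (MulAut.conj g).toMonoidHom
  · intro ha
    exact Commute.of_map (f := (MulAut.conj g).toMonoidHom) (MulAut.conj g).injective ha

/-- Conjugation between centralizers. -/
def czEquiv {g s w : G} (h : g * s * g⁻¹ = w) : ↥(Cz s) ≃* ↥(Cz w) where
  toFun a := ⟨g * a * g⁻¹, (conj_mem_Cz_iff h).1 a.2⟩
  invFun a := ⟨g⁻¹ * a * g, (conj_mem_Cz_iff h).2 (by
    rw [show g * (g⁻¹ * a * g) * g⁻¹ = (a : G) by group]; exact a.2)⟩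
  left_inv a := Subtype.ext (show g⁻¹ * (g * a * g⁻¹) * g = (a : G) by group)
  right_inv a := Subtype.ext (show g * (g⁻¹ * a * g) * g⁻¹ = (a : G) by group)
  map_mul' a b := Subtype.ext (show g * (a * b) * g⁻¹ = g * a * g⁻¹ * (g * b * g⁻¹) by group)

theorem map_oddCore {A B : Type*} [Group A] [Group B] [Finite A] [Finite B] (e : A ≃* B) :
    (Cfsg.oddCore A).map e.toMonoidHom = Cfsg.oddCore B := by
  have hle : ∀ {A B : Type _} [Group A] [Group B] [Finite A] (e : A ≃* B),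
      (Cfsg.oddCore A).map e.toMonoidHom ≤ Cfsg.oddCore B := fun e =>
    Solvable.le_pPrimeCore 2 ((Solvable.pPrimeCore_spec 2).1.map _ e.surjective)
      ((Solvable.coprime_card_pPrimeCore 2).coprime_dvd_left (card_map_dvd _ _))
  refine le_antisymm (hle e) fun x hx => ?_
  exact ⟨e.symm x, Solvable.le_pPrimeCore 2 ((Solvable.pPrimeCore_spec 2).1.map _ e.symm.surjective)
    ((Solvable.coprime_card_pPrimeCore 2).coprime_dvd_left (card_map_dvd _ _))
      (mem_map_of_mem e.symm.toMonoidHom hx), by simp⟩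

theorem Leg.map_equiv {X X' : Type*} [Group X] [Group X'] {A : Subgroup X} {z : X} (hA : Leg A z)
    (e : X ≃* X') : Leg (A.map e.toMonoidHom) (e z) where
  comp := Comp.component_map_equiv e hA.comp
  mem := ⟨z, hA.mem, rfl⟩
  ne := fun h => hA.ne (e.injective (by rw [h, map_one]))
  sq := by rw [← map_mul, hA.sq, map_one]
  cen := fun x => by
    obtain ⟨x, rfl⟩ := e.surjective x
    exact (hA.cen x).map e.toMonoidHom
  invol := by
    rintro _ ⟨a, ha, rfl⟩ h
    rcases hA.invol a ha (e.injective (by rw [map_mul, map_one]; exact h)) with r | r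
    · exact Or.inl (by rw [r]; exact map_one e)
    · exact Or.inr (by rw [r]; rfl)
  centre := by
    rintro _ ⟨a, ha, rfl⟩ h
    rcases hA.centre a ha (fun b hb => Commute.of_map (f := e.toMonoidHom) e.injective (h _ ⟨b, hb, rfl⟩))
      with r | r
    · exact Or.inl (by rw [r]; exact map_one e)
    · exact Or.inr (by rw [r]; rfl)
  four := by
    rintro _ ⟨y, hy, rfl⟩ h
    obtain ⟨a, ha, g, hg, h1, h2, h3, h4⟩ := hA.four y hy (e.injective (by rw [map_mul]; exact h))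
    refine ⟨e a, ⟨a, ha, rfl⟩, e g, ⟨g, hg, rfl⟩, by rw [← map_mul, h1], ?_, ?_, ?_⟩
    · show e a * e y * (e a)⁻¹ = (e y)⁻¹
      rw [← map_inv, ← map_mul, ← map_mul, h2, map_inv]
    · show e g * e y * (e g)⁻¹ = e a ∨ e g * e y * (e g)⁻¹ = (e a)⁻¹
      rw [← map_inv, ← map_mul, ← map_mul, ← map_inv]
      exact h3.imp (congrArg _) (congrArg _)
    · show e g * e a * (e g)⁻¹ = e a * e y ∨ e g * e a * (e g)⁻¹ = (e a * e y)⁻¹
      rw [← map_inv, ← map_mul, ← map_mul, ← map_mul, ← map_inv]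
      exact h4.imp (congrArg _) (congrArg _)

section Finite

variable [Finite G] {J K : Subgroup G} {z t : G}

/-- The data attached to two commuting involutions. -/
def ctx (legJ : Leg (img J z) (mk z (zel z))) (legK : Leg (img K t) (mk t (zel t))) (hz : z * z = 1)
    (ht : t * t = 1) (hne : z ≠ t) (hc : Commute z t) :
    Ctx ↥(Cz z ⊓ Cz t) (↥(Cz z) ⧸ Cfsg.oddCore ↥(Cz z)) (↥(Cz t) ⧸ Cfsg.oddCore ↥(Cz t)) where
  f := (mk z).comp (Subgroup.inclusion inf_le_left)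
  g := (mk t).comp (Subgroup.inclusion inf_le_right)
  z := ⟨z, self_mem_Cz z, mem_Cz.2 hc⟩
  t := ⟨t, mem_Cz.2 hc.symm, self_mem_Cz t⟩
  A := img J z
  B := img K t
  legA := legJ
  legB := legK
  zc d := Subtype.ext (mem_Cz.1 d.2.1).eq.symm
  tc d := Subtype.ext (mem_Cz.1 d.2.2).eq.symm
  zz := Subtype.ext hz
  tt := Subtype.ext ht
  hne h := hne (congrArg Subtype.val h)
  kerf := by
    rw [← card_map_of_injective (f := Subgroup.inclusion (inf_le_left : Cz z ⊓ Cz t ≤ Cz z))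
      (Subgroup.inclusion_injective _)]
    exact odd_card_core.of_dvd_nat (card_dvd_of_le (by
      rintro _ ⟨d, hd, rfl⟩
      exact (QuotientGroup.eq_one_iff _).1 hd))
  kerg := by
    rw [← card_map_of_injective (f := Subgroup.inclusion (inf_le_right : Cz z ⊓ Cz t ≤ Cz t))
      (Subgroup.inclusion_injective _)]
    exact odd_card_core.of_dvd_nat (card_dvd_of_le (by
      rintro _ ⟨d, hd, rfl⟩
      exact (QuotientGroup.eq_one_iff _).1 hd))
  liftf x hx := by
    obtain ⟨a, ha, rfl⟩ := exists_lift_comm (N := Cfsg.oddCore ↥(Cz z)) odd_card_core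
      (τ := ⟨t, mem_Cz.2 hc.symm⟩) (Subtype.ext ht) hx
    exact ⟨⟨a, a.2, mem_Cz.2 (ha.map (Cz z).subtype)⟩, rfl⟩
  liftg x hx := by
    obtain ⟨a, ha, rfl⟩ := exists_lift_comm (N := Cfsg.oddCore ↥(Cz t)) odd_card_core
      (τ := ⟨z, mem_Cz.2 hc⟩) (Subtype.ext hz) hx
    exact ⟨⟨a, mem_Cz.2 (ha.map (Cz t).subtype), a.2⟩, rfl⟩

variable (legJ : Leg (img J z) (mk z (zel z))) (legK : Leg (img K t) (mk t (zel t))) (hz : z * z = 1)
  (ht : t * t = 1) (hne : z ≠ t) (hc : Commute z t)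

theorem linked : Linked (ctx legJ legK hz ht hne hc) := by
  intro u _ huz hanti x _ hxx hxanti
  set c := ctx legJ legK hz ht hne hc
  -- exact preimages
  obtain ⟨a, rfl⟩ := QuotientGroup.mk'_surjective _ u
  obtain ⟨b, rfl⟩ := QuotientGroup.mk'_surjective _ x
  have hza : ∀ e : ↥(Cz z), Commute (zel z) e := fun e => Subtype.ext (mem_Cz.1 e.2).eq.symm
  have htb : ∀ e : ↥(Cz t), Commute (zel t) e := fun e => Subtype.ext (mem_Cz.1 e.2).eq.symm
  let τ : ↥(Cz z) := ⟨t, mem_Cz.2 hc.symm⟩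
  let ζ : ↥(Cz t) := ⟨z, mem_Cz.2 hc⟩
  have hττ : τ * τ = 1 := Subtype.ext ht
  have hζζ : ζ * ζ = 1 := Subtype.ext hz
  have hτz : τ * zel z * (τ * zel z) = 1 := by
    rw [← pow_two, (hza τ).symm.mul_pow, pow_two, pow_two, hττ, one_mul]; exact Subtype.ext hz
  have hζt : ζ * zel t * (ζ * zel t) = 1 := by
    rw [← pow_two, (htb ζ).symm.mul_pow, pow_two, pow_two, hζζ, one_mul]; exact Subtype.ext ht
  have e1 : mk z (a * τ * a⁻¹) = mk z (τ * zel z) := by
    have h' : mk z τ * mk z a = mk z a * mk z (zel z) * mk z τ := mul_inv_eq_iff_eq_mul.1 hanti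
    have hz' : Commute (mk z (zel z)) (mk z τ) := (hza τ).map _
    have hzz' : mk z (zel z) * mk z (zel z) = 1 := c.legA.sq
    rw [map_mul, map_mul, map_mul, map_inv, mul_inv_eq_iff_eq_mul, mul_assoc (mk z τ),
      ((hza a).map (mk z)).eq, ← mul_assoc, h', mul_assoc (mk z a * _), ← hz'.eq, mul_assoc (mk z a),
      ← mul_assoc (mk z (zel z)), hzz', one_mul]
  have e2 : mk t (b * ζ * b⁻¹) = mk t (ζ * zel t) := by
    have h' : mk t ζ * mk t b = mk t b * mk t (zel t) * mk t ζ := mul_inv_eq_iff_eq_mul.1 hxanti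
    have hz' : Commute (mk t (zel t)) (mk t ζ) := (htb ζ).map _
    have hzz' : mk t (zel t) * mk t (zel t) = 1 := c.legB.sq
    rw [map_mul, map_mul, map_mul, map_inv, mul_inv_eq_iff_eq_mul, mul_assoc (mk t ζ),
      ((htb b).map (mk t)).eq, ← mul_assoc, h', mul_assoc (mk t b * _), ← hz'.eq, mul_assoc (mk t b),
      ← mul_assoc (mk t (zel t)), hzz', one_mul]
  obtain ⟨a', ha', hat, -⟩ := exists_adjust odd_card_core hττ hτz e1
  obtain ⟨b', hb', hbz, -⟩ := exists_adjust odd_card_core hζζ hζt e2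
  have hat' : (a' : G) * t * (a' : G)⁻¹ = t * z := congrArg Subtype.val hat
  have hbz' : (b' : G) * z * (b' : G)⁻¹ = z * t := congrArg Subtype.val hbz
  have haz : (a' : G) * z * (a' : G)⁻¹ = z := by rw [(mem_Cz.1 a'.2).eq, mul_inv_cancel_right]
  have hbt : (b' : G) * t * (b' : G)⁻¹ = t := by rw [(mem_Cz.1 b'.2).eq, mul_inv_cancel_right]
  have hzt : ∀ d, d ∈ Cz z ⊓ Cz t ↔ d ∈ Cz z ⊓ Cz (t * z) := fun d => by
    simp only [Subgroup.mem_inf, mem_Cz]
    refine and_congr_right fun h => ⟨fun h' => h'.mul_right h, fun h' => ?_⟩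
    have := h'.mul_right h
    rwa [mul_assoc, hz, mul_one] at this
  have htz' : ∀ d, d ∈ Cz z ⊓ Cz t ↔ d ∈ Cz (z * t) ⊓ Cz t := fun d => by
    simp only [Subgroup.mem_inf, mem_Cz]
    refine and_congr_left fun h => ⟨fun h' => h'.mul_right h, fun h' => ?_⟩
    have := h'.mul_right h
    rwa [mul_assoc, ht, mul_one] at this
  let θ : MulAut ↥(Cz z ⊓ Cz t) := conjSub (a' : G) _ fun d => by
    rw [hzt ((a' : G) * d * (a' : G)⁻¹), Subgroup.mem_inf, Subgroup.mem_inf, ← conj_mem_Cz_iff haz,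
      ← conj_mem_Cz_iff hat']
  let ψ : MulAut ↥(Cz z ⊓ Cz t) := conjSub (b' : G) _ fun d => by
    rw [htz' ((b' : G) * d * (b' : G)⁻¹), Subgroup.mem_inf, Subgroup.mem_inf, ← conj_mem_Cz_iff hbz',
      ← conj_mem_Cz_iff hbt]
  have hg : ((b' : G)⁻¹ * a') * t * ((b' : G)⁻¹ * a')⁻¹ = z := by
    have h1 : (b' : G) * (z * t) * (b' : G)⁻¹ = z := by
      rw [show (b' : G) * (z * t) * (b' : G)⁻¹ = (b' : G) * z * (b' : G)⁻¹ * ((b' : G) * t * (b' : G)⁻¹) by group,
        hbz', hbt, mul_assoc, ht, mul_one]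
    calc ((b' : G)⁻¹ * a') * t * ((b' : G)⁻¹ * a')⁻¹ = (b' : G)⁻¹ * ((a' : G) * t * (a' : G)⁻¹) * b' := by group
      _ = (b' : G)⁻¹ * z * b' * ((b' : G)⁻¹ * t * b') := by rw [hat', ← hc.eq]; group
      _ = z := by
          have h2 : (b' : G)⁻¹ * t * b' = t := by rw [mul_assoc, ← (mem_Cz.1 b'.2).eq, inv_mul_cancel_left]
          have h3 : (b' : G)⁻¹ * z * b' = z * t := by
            conv_lhs => rw [← h1]
            group
          rw [h2, h3, mul_assoc, ht, mul_one]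
  let e := QuotientGroup.congr (Cfsg.oddCore ↥(Cz t)) (Cfsg.oddCore ↥(Cz z)) (czEquiv hg) (map_oddCore _)
  have hez : e (mk t (zel t)) = mk z (zel z) := congrArg (mk z) (Subtype.ext hg)
  refine ⟨θ, ψ, Subtype.ext hat', fun d => ?_, Subtype.ext hbt, Subtype.ext hbz', fun d => ?_,
    (img K t).map e.toMonoidHom, ?_, fun d hd => ⟨_, hd, ?_⟩⟩
  · show mk z ((czEquiv haz) (Subgroup.inclusion inf_le_left d)) = _
    rw [← ha']
    show _ = mk z a' * mk z (Subgroup.inclusion inf_le_left d) * (mk z a')⁻¹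
    rw [← map_inv, ← map_mul, ← map_mul]
    exact congrArg (mk z) (Subtype.ext rfl)
  · show mk t ((czEquiv hbt) (Subgroup.inclusion inf_le_right d)) = _
    rw [← hb']
    show _ = mk t b' * mk t (Subgroup.inclusion inf_le_right d) * (mk t b')⁻¹
    rw [← map_inv, ← map_mul, ← map_mul]
    exact congrArg (mk t) (Subtype.ext rfl)
  · have := legK.map_equiv e
    rwa [hez] at this
  · show mk z ((czEquiv hg) (Subgroup.inclusion inf_le_right d)) = _
    exact congrArg (mk z) (Subtype.ext (show ((b' : G)⁻¹ * a') * (d : G) * ((b' : G)⁻¹ * a')⁻¹ =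
      (b' : G)⁻¹ * ((a' : G) * (d : G) * (a' : G)⁻¹) * b' by group))

theorem no_exit : ¬ Exit (ctx legJ legK hz ht hne hc) := by
  rintro ⟨L, w, X₁, h, hL, hwL, hwz, hXX, hFL, hT, hh1, hh2⟩
  haveI := compKer_normal (X := ↥(Cz z) ⧸ Cfsg.oddCore ↥(Cz z))
  set x : G := (X₁ : G) with hxdef
  have hxx : x * x = 1 := congrArg Subtype.val hXX
  have hxz : Commute x z := mem_Cz.1 X₁.2.1
  have hxt : Commute x t := mem_Cz.1 X₁.2.2
  have htx2 : t * x * (t * x) = 1 := by rw [← pow_two, hxt.symm.mul_pow, pow_two, pow_two, ht, hxx, one_mul]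
  -- the exact element of the centralizer of `t`
  obtain ⟨a, rfl⟩ := QuotientGroup.mk'_surjective _ h
  let ζ : ↥(Cz t) := ⟨z, mem_Cz.2 hc⟩
  let ξ : ↥(Cz t) := ⟨x, mem_Cz.2 hxt⟩
  let ξ₁ : ↥(Cz t) := zel t * ξ
  have hξ₁ : ξ₁ * ξ₁ = 1 := Subtype.ext htx2
  obtain ⟨a', ha', haz, -⟩ := exists_adjust (a := a) (p := ζ) (q := ξ₁) odd_card_core (Subtype.ext hz) hξ₁
    (by rw [map_mul, map_mul, map_inv, map_mul]; exact hh1)
  let ξ₂ : ↥(Cz t) := zel t * ζ * ξ
  have hzx : Commute ζ ξ := Subtype.ext hxz.symm.eq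
  have htc : ∀ e : ↥(Cz t), Commute (zel t) e := fun e => Subtype.ext (mem_Cz.1 e.2).eq.symm
  have hξ₂ : ξ₂ * ξ₂ = 1 := by
    rw [show ξ₂ * ξ₂ = (zel t * (ζ * ξ)) * (zel t * (ζ * ξ)) by simp only [ξ₂, mul_assoc], ← pow_two,
      (htc _).mul_pow, hzx.mul_pow, pow_two, pow_two, pow_two]
    exact Subtype.ext (show t * t * (z * z * (x * x)) = 1 by rw [ht, hz, hxx, one_mul, one_mul])
  obtain ⟨a'', ha'', hax, hcen⟩ := exists_adjust (a := a') (p := ξ) (q := ξ₂) odd_card_core (Subtype.ext hxx) hξ₂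
    (by rw [map_mul, map_mul, map_inv, ha', map_mul, map_mul]; exact hh2)
  have hcomm : Commute (a'' * a'⁻¹) ξ₁ := hcen ξ₁ (by
      rw [← haz]
      exact (show Commute ξ ζ from hzx.symm).map (MulAut.conj a').toMonoidHom) (by
      refine ((htc _).mul_left ?_).mul_left ?_
      · exact (htc ζ).symm.mul_right hzx
      · exact (htc ξ).symm.mul_right (Commute.refl ξ)) (Commute.refl _)
  have haz' : a'' * ζ * a''⁻¹ = ξ₁ := by
    calc a'' * ζ * a''⁻¹ = (a'' * a'⁻¹) * (a' * ζ * a'⁻¹) * (a'' * a'⁻¹)⁻¹ := by group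
      _ = ξ₁ := by rw [haz, hcomm.eq, mul_inv_cancel_right]
  -- the conjugation
  set q : G := (a'' : G)
  have hqz : q * z * q⁻¹ = t * x := congrArg Subtype.val haz'
  have hqx : q * x * q⁻¹ = t * z * x := congrArg Subtype.val hax
  have hqt : q * t * q⁻¹ = t := by rw [(mem_Cz.1 a''.2).eq, mul_inv_cancel_right]
  let M : Subgroup G := Cz z ⊓ Cz x
  have hqM : ∀ p ∈ M, q * p * q⁻¹ ∈ Cz z := by
    intro p hp
    have h1 := mem_Cz.1 ((conj_mem_Cz_iff hqz).1 hp.1)
    have h2 := mem_Cz.1 ((conj_mem_Cz_iff hqx).1 hp.2)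
    have h3 := h1.mul_right h2
    rw [show t * x * (t * z * x) = t * (x * (t * z)) * x by group, (hxt.mul_right hxz).eq] at h3
    rw [show t * (t * z * x) * x = t * t * z * (x * x) by group, ht, hxx, one_mul, mul_one] at h3
    exact mem_Cz.2 h3
  let φ : M →* ↥(Cz z) ⧸ Cfsg.oddCore ↥(Cz z) := (mk z).comp (Subgroup.inclusion inf_le_left)
  let ρ : M →* ↥(Cz z) ⧸ Cfsg.oddCore ↥(Cz z) :=
    (mk z).comp (MonoidHom.codRestrict ((MulAut.conj q).toMonoidHom.comp M.subtype) (Cz z) fun p => hqM p p.2)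
  set c := ctx legJ legK hz ht hne hc
  set F := c.f X₁ with hF
  set T := c.f c.t with hTdef
  have hFF : F * F = 1 := by rw [hF, ← map_mul, hXX, map_one]
  have hFi : F⁻¹ = F := inv_eq_of_mul_eq_one_right hFF
  have hcF : ∀ {p p' : ↥(Cz z) ⧸ Cfsg.oddCore ↥(Cz z)}, p ∈ L → p' ∈ L → Commute p (F * p' * F⁻¹) :=
    fun hp hp' => hL.commute_of_moved hFL hp hp'
  let δ : L →* ↥(Cz z) ⧸ Cfsg.oddCore ↥(Cz z) :=
    MonoidHom.mk' (fun a => (a : _) * (F * a * F⁻¹)) (fun a b => by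
      show (a : ↥(Cz z) ⧸ Cfsg.oddCore ↥(Cz z)) * b * (F * (a * b) * F⁻¹) =
        a * (F * a * F⁻¹) * (b * (F * b * F⁻¹))
      calc (a : ↥(Cz z) ⧸ Cfsg.oddCore ↥(Cz z)) * b * (F * (a * b) * F⁻¹)
          = a * (b * (F * a * F⁻¹)) * (F * b * F⁻¹) := by group
        _ = _ := by rw [(hcF b.2 a.2).eq]; group)
  have hδw : δ ⟨w, hwL⟩ = T * c.f c.z := by
    show w * (F * w * F⁻¹) = _
    rw [hT, ← hwz, (hcF hwL hwL).eq]
    group
  have hsurj : ∀ a : L, ∃ p : M, φ p = δ a := by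
    intro a
    obtain ⟨p, hp, hpe⟩ := exists_lift_comm (N := Cfsg.oddCore ↥(Cz z)) odd_card_core
      (τ := Subgroup.inclusion inf_le_left X₁) (Subtype.ext hxx) (x := δ a) (by
      show (a : _) * (F * a * F⁻¹) * F = F * ((a : _) * (F * a * F⁻¹))
      calc (a : _) * (F * a * F⁻¹) * F = (F * a * F⁻¹ * a) * F := by rw [(hcF a.2 a.2).eq]
        _ = F * ((a : _) * (F⁻¹ * a * F)) := by group
        _ = F * ((a : _) * (F * a * F⁻¹)) := by rw [hFi])
    exact ⟨⟨p, p.2, mem_Cz.2 (hp.map (Cz z).subtype)⟩, hpe⟩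
  let P' : Subgroup M := δ.range.comap φ
  let N₂ : Subgroup M := (compKer _).comap ρ
  haveI : N₂.Normal := inferInstance
  let te : M := ⟨t, mem_Cz.2 hc.symm, mem_Cz.2 hxt.symm⟩
  have hteN : te ∈ N₂ := by
    show ρ te ∈ compKer _
    rw [show ρ te = T from congrArg (mk z) (Subtype.ext hqt), hT]
    have hLK : ∀ a ∈ L, a ∈ compKer _ := fun a ha => component_le_compKer hL.comp ha
    exact mul_mem ((inferInstance : (compKer _).Normal).conj_mem _ (hLK w hwL) F) (inv_mem (hLK w hwL))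
  let N : Subgroup L := ((P' ⊓ N₂).map φ).comap δ
  have hNn : N.Normal := ⟨fun n hn a => by
    obtain ⟨p, hp, hpe⟩ := hn
    obtain ⟨s, hs⟩ := hsurj a
    have hpe' : φ (s * p * s⁻¹) = δ (a * n * a⁻¹) := by
      simp only [map_mul, map_inv, hs, hpe]
    exact ⟨s * p * s⁻¹, ⟨⟨_, hpe'.symm⟩, (inferInstance : N₂.Normal).conj_mem _ hp.2 _⟩, hpe'⟩⟩
  have hwa : ∀ a : L, ⁅(⟨w, hwL⟩ : L), a⁆ ∈ N := by
    intro a
    obtain ⟨p, hp⟩ := hsurj a
    have hval : φ ⁅te, p⁆ = δ ⁅(⟨w, hwL⟩ : L), a⁆ := by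
      rw [map_commutatorElement, map_commutatorElement, hp, hδw, show φ te = T from rfl]
      have hzc : Commute (c.f c.z) (δ a) := hL.cen _
      rw [commutatorElement_def, commutatorElement_def, mul_inv_rev,
        show T * c.f c.z * δ a * ((c.f c.z)⁻¹ * T⁻¹) = T * (c.f c.z * δ a * (c.f c.z)⁻¹) * T⁻¹ by group,
        hzc.eq, mul_inv_cancel_right]
    refine ⟨⁅te, p⁆, ⟨⟨_, hval.symm⟩, ?_⟩, hval⟩
    rw [commutatorElement_def, show te * p * te⁻¹ * p⁻¹ = te * (p * te⁻¹ * p⁻¹) by group]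
    exact mul_mem hteN ((inferInstance : N₂.Normal).conj_mem _ (inv_mem hteN) p)
  have hNtop : N = ⊤ := by
    refine (Comp.quasisimple_normal hL.comp.2 hNn).resolve_right fun hN => ?_
    let W : Subgroup L := zpowers ⟨w, hwL⟩ ⊔ center L
    have hW : W.Normal := by
      refine ⟨fun n hn a => ?_⟩
      have hle : W.map (MulAut.conj a).toMonoidHom ≤ W := by
        rw [Subgroup.map_sup, sup_le_iff]
        refine ⟨?_, ?_⟩
        · rw [MonoidHom.map_zpowers, zpowers_le]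
          show a * ⟨w, hwL⟩ * a⁻¹ ∈ W
          rw [show a * (⟨w, hwL⟩ : L) * a⁻¹ = ⁅(⟨w, hwL⟩ : L), a⁆⁻¹ * ⟨w, hwL⟩ by
            rw [commutatorElement_def]; group]
          exact mul_mem (mem_sup_right (inv_mem (hN (hwa a)))) (mem_sup_left (mem_zpowers _))
        · rintro _ ⟨b, hb, rfl⟩
          refine mem_sup_right ?_
          show a * b * a⁻¹ ∈ center L
          rw [mem_center_iff.1 hb a, mul_inv_cancel_right]
          exact hb
      exact hle ⟨n, hn, rfl⟩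
    rcases Comp.quasisimple_normal hL.comp.2 hW with e | e
    · have hcw : (⟨w, hwL⟩ : L) ∈ center L := by
        rw [mem_center_iff]
        intro b
        have hb : b ∈ W := e ▸ mem_top b
        have hle : W ≤ centralizer ({⟨w, hwL⟩} : Set L) := sup_le
          (zpowers_le.2 (mem_centralizer_singleton_iff.2 rfl))
          (center_le_centralizer _)
        exact mem_centralizer_singleton_iff.1 (hle hb)
      refine Comp.quasisimple_center_ne_top hL.comp.2 (top_le_iff.1 (e ▸ ?_))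
      exact sup_le (zpowers_le.2 hcw) le_rfl
    · have hcw := mem_center_iff.1 (e (mem_sup_left (mem_zpowers (⟨w, hwL⟩ : L))))
      obtain ⟨h1, h2⟩ := hL.ne_of_sq hwz
      rcases hL.centre w hwL (fun b hb => (congrArg Subtype.val (hcw ⟨b, hb⟩)).symm) with r | r
      · exact h1 r
      · exact h2 r
  obtain ⟨n, hn, hne'⟩ : (⟨w, hwL⟩ : L) ∈ N := hNtop ▸ mem_top _
  let e' : M := te * ⟨z, self_mem_Cz z, mem_Cz.2 hxz.symm⟩
  have hφe : φ e' = δ ⟨w, hwL⟩ := by rw [hδw, map_mul]; rfl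
  have hk : φ (n⁻¹ * e') = 1 := by rw [map_mul, map_inv, hne', hφe, inv_mul_cancel]
  have hkodd : Odd (orderOf (n⁻¹ * e')) := by
    rw [← orderOf_injective _ (Subgroup.inclusion_injective (inf_le_left : M ≤ Cz z)) (n⁻¹ * e')]
    exact odd_orderOf_of_mem odd_card_core ((QuotientGroup.eq_one_iff _).1 hk)
  have hρe : ρ e' = F := congrArg (mk z) (Subtype.ext (show q * (t * z) * q⁻¹ = x by
    rw [show q * (t * z) * q⁻¹ = q * t * q⁻¹ * (q * z * q⁻¹) by group, hqt, hqz, ← mul_assoc, ht, one_mul]))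
  refine hFL (mem_compKer.1 ((QuotientGroup.eq_one_iff F).1 ?_) L hL.comp)
  refine eq_one_of_two_of_odd ((IsTwoElem.of_sq hFF).map (QuotientGroup.mk' (compKer _))) ?_
  have hπ : QuotientGroup.mk' (compKer _) F = QuotientGroup.mk' (compKer _) (ρ (n⁻¹ * e')) := by
    have h0 : QuotientGroup.mk' (compKer _) (ρ n) = 1 := (QuotientGroup.eq_one_iff _).2 hn.2
    rw [map_mul ρ, map_inv, map_mul, map_inv, h0, inv_one, one_mul, hρe]
  show Odd (orderOf (QuotientGroup.mk' (compKer _) F))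
  rw [hπ]
  exact hkodd.of_dvd_nat ((orderOf_map_dvd _ _).trans (orderOf_map_dvd ρ _))

include legJ legK hz ht hne hc in
/-- Two-elements of `K` which are not involutions and centralize `z` fix the image of `J`. -/
theorem fixes_img (hcard : Nat.card (img J z) = Nat.card (img K t)) {y : G} (hy : y ∈ K) (hyt : y ∈ Cz t)
    (hyz : y ∈ Cz z) (h2 : IsTwoElem y) (hsq : y * y ≠ 1) :
    mk z ⟨y, hyz⟩ ∈ normalizer ((img J z : Subgroup _) : Set (↥(Cz z) ⧸ Cfsg.oddCore ↥(Cz z))) := by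
  have hy2 : IsTwoElem (⟨y, hyz, hyt⟩ : ↥(Cz z ⊓ Cz t)) := h2.imp fun k hk => Subtype.ext hk
  rcases (ctx legJ legK hz ht hne hc).fixes_or_exit hcard (linked legJ legK hz ht hne hc)
    (y := ⟨y, hyz, hyt⟩) ⟨⟨y, hyt⟩, hy, rfl⟩ hy2 (fun e => hsq (congrArg Subtype.val e)) with h | h
  · exact h
  · exact absurd h (no_exit legJ legK hz ht hne hc)

end Finite

end CfsgLib.TwinComp
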