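import Cfsg.Agent.TwinComp.Tools

/-!
A two-element of `B` moving `A` forces a component `L` with `f t` acting on it as an element of order four
twisted by an involution of the common centralizer, together with an element of `Y` permuting the four-group.
-/

set_option autoImplicit false
set_option linter.unusedSectionVars false
set_option linter.style.haveILetI false

namespace CfsgLib.TwinComp

open Subgroup

variable {D X Y : Type*} [Group D] [Group X] [Group Y] [Finite D] [Finite X] [Finite Y]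

/-- A two-element moving `A` whose square fixes it and is not trivial. -/
structure Moved (c : Ctx D X Y) (y : D) : Prop where
  mem : c.g y ∈ c.B
  two : IsTwoElem y
  nsq : y * y ≠ 1
  moves : c.f y ∉ normalizer (c.A : Set X)
  sqfix : c.f (y * y) ∈ normalizer (c.A : Set X)

/-- Elements of the ambient group realising the automorphisms attached to a pair of anti-fixed
elements. -/
def Linked (c : Ctx D X Y) : Prop :=
  ∀ u ∈ c.A, u * u = c.f c.z → c.f c.t * u * (c.f c.t)⁻¹ = u * c.f c.z →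
    ∀ x ∈ c.B, x * x = c.g c.t → c.g c.z * x * (c.g c.z)⁻¹ = x * c.g c.t →
      ∃ θ ψ : MulAut D, θ c.t = c.t * c.z ∧ (∀ d, c.f (θ d) = u * c.f d * u⁻¹) ∧
        ψ c.t = c.t ∧ ψ c.z = c.z * c.t ∧ (∀ d, c.g (ψ d) = x * c.g d * x⁻¹) ∧
        ∃ L : Subgroup X, Leg L (c.f c.z) ∧ ∀ d, c.g d ∈ c.B → c.f (ψ.symm (θ d)) ∈ L

/-- What a moving element leaves behind. -/
def Exit (c : Ctx D X Y) : Prop :=
  ∃ (L : Subgroup X) (w : X) (X₁ : D) (h : Y), Leg L (c.f c.z) ∧ w ∈ L ∧ w * w = c.f c.z ∧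
    X₁ * X₁ = 1 ∧ c.f X₁ ∉ normalizer (L : Set X) ∧
    c.f c.t = c.f X₁ * w * (c.f X₁)⁻¹ * w⁻¹ ∧
    h * c.g c.z * h⁻¹ = c.g c.t * c.g X₁ ∧ h * c.g X₁ * h⁻¹ = c.g c.t * c.g c.z * c.g X₁

section General

variable {A : Subgroup X} {z : X}

/-- The product of `j` and its translate is fixed by whatever fixes `j` up to the involution. -/
theorem pair_fixed (hA : Leg A z) {j v τ : X} (hτ : Commute τ v)
    (h : τ * j * τ⁻¹ = j ∨ τ * j * τ⁻¹ = j * z) : Commute τ (j * (v * j * v⁻¹)) := by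
  have e : τ * (j * (v * j * v⁻¹)) * τ⁻¹ = (τ * j * τ⁻¹) * (v * (τ * j * τ⁻¹) * v⁻¹) := by
    calc τ * (j * (v * j * v⁻¹)) * τ⁻¹ = τ * j * τ⁻¹ * ((τ * v) * j * (τ * v)⁻¹) := by group
      _ = τ * j * τ⁻¹ * ((v * τ) * j * (v * τ)⁻¹) := by rw [hτ.eq]
      _ = (τ * j * τ⁻¹) * (v * (τ * j * τ⁻¹) * v⁻¹) := by group
  refine mul_inv_eq_iff_eq_mul.1 ?_
  rcases h with h | h <;> rw [e, h]
  calc j * z * (v * (j * z) * v⁻¹) = (j * z) * (v * j * (z * v⁻¹)) := by group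
    _ = j * z * (v * j * (v⁻¹ * z)) := by rw [(hA.cen v⁻¹).eq]
    _ = j * (z * (v * j * v⁻¹)) * z := by group
    _ = j * (v * j * v⁻¹) * (z * z) := by rw [(hA.cen (v * j * v⁻¹)).eq]; group
    _ = j * (v * j * v⁻¹) := by rw [hA.sq, mul_one]

theorem exists_anti_four (hA : Leg A z) {Q : Subgroup X} (hQA : Q ≤ A) (hQ : ∀ q ∈ Q, IsTwoElem q) {τ : X}
    (hτ : τ * τ = 1) (hτQ : ∀ q ∈ Q, τ * q * τ ∈ Q) {q : X} (hq : q ∈ Q) (hqz : q * q = z)
    (hne : τ * q * τ ≠ q) : ∃ u ∈ A, u * u = z ∧ τ * u * τ = u * z := by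
  obtain ⟨c, hc⟩ : ∃ c, c = q⁻¹ * (τ * q * τ) := ⟨_, rfl⟩
  have hcQ : c ∈ Q := hc ▸ mul_mem (inv_mem hq) (hτQ q hq)
  have hinv : τ * c * τ = c⁻¹ := by
    rw [hc, mul_inv_rev, inv_inv, mul_inv_rev, mul_inv_rev, inv_eq_of_mul_eq_one_right hτ]
    simp only [mul_assoc]
    rw [hτ, mul_one]
  by_cases h1 : c * c = 1
  · rcases hA.invol c (hQA hcQ) h1 with e | e
    · rw [hc, inv_mul_eq_one] at e
      exact absurd e.symm hne
    · exact ⟨q, hQA hq, hqz, by rw [← e, hc, mul_inv_cancel_left]⟩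
  obtain ⟨k, hk⟩ := hA.exists_four (hQA hcQ) (hQ c hcQ) (fun e => h1 (by rw [e, one_mul]))
    (fun e => h1 (by rw [e, hA.sq]))
  refine ⟨c ^ 2 ^ k, pow_mem (hQA hcQ) _, hk, ?_⟩
  have e : τ * c ^ 2 ^ k * τ = (τ * c * τ⁻¹) ^ 2 ^ k := by
    rw [conj_pow, inv_eq_of_mul_eq_one_right hτ]
  rw [e, inv_eq_of_mul_eq_one_right hτ, hinv, inv_pow, inv_eq_iff_mul_eq_one, ← mul_assoc, hk, hA.sq]

end General

namespace Moved

variable {c : Ctx D X Y} {y : D} (hy : Moved c y)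
include hy

theorem gy_ne : c.g y * c.g y ≠ 1 := fun h =>
  hy.nsq (c.gker_two (hy.two.mul hy.two (Commute.refl y)) (by rw [map_mul, h]))

theorem exists_pow_eq : ∃ k : ℕ, (y * y) ^ 2 ^ k = c.t := by
  have h1 : c.g y ≠ 1 := fun e => hy.gy_ne (by rw [e, one_mul])
  have h2 : c.g y ≠ c.g c.t := fun e => hy.gy_ne (by rw [e]; exact c.legB.sq)
  obtain ⟨k, hk⟩ := c.legB.exists_four hy.mem (hy.two.map c.g) h1 h2
  refine ⟨k, ?_⟩
  rw [(Commute.refl y).mul_pow]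
  rw [← map_pow] at hk
  exact c.sq_eq_t (hy.two.pow _) hk

theorem t_fix : c.f c.t ∈ normalizer (c.A : Set X) := by
  obtain ⟨k, hk⟩ := hy.exists_pow_eq
  rw [← hk, map_pow]
  exact pow_mem hy.sqfix _

theorem comm {a b : X} (ha : a ∈ c.A) (hb : b ∈ c.A) : Commute a (c.f y * b * (c.f y)⁻¹) :=
  c.legA.commute_of_moved hy.moves ha hb

theorem pair_two {j : X} (hj : j ∈ c.A) (h2 : IsTwoElem j) : IsTwoElem (j * (c.f y * j * (c.f y)⁻¹)) :=
  h2.mul (h2.conj _) (hy.comm hj hj)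

theorem comm_val {W : D} {j : X} (hj : j ∈ c.A) (hW : c.f W = j * (c.f y * j * (c.f y)⁻¹)) :
    c.f (W⁻¹ * y * W * y⁻¹) = j⁻¹ * (c.f (y * y) * j * (c.f (y * y))⁻¹) := by
  rw [map_mul, map_mul, map_mul, map_mul, map_inv, map_inv, hW]
  have e : Commute j⁻¹ (c.f y * j * (c.f y)⁻¹) := (hy.comm hj hj).inv_left
  generalize c.f y = v at e ⊢
  calc (j * (v * j * v⁻¹))⁻¹ * v * (j * (v * j * v⁻¹)) * v⁻¹
      = v * j⁻¹ * v⁻¹ * (j⁻¹ * (v * j * v⁻¹)) * (v * v * j * (v * v)⁻¹) := by group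
    _ = v * j⁻¹ * v⁻¹ * ((v * j * v⁻¹) * j⁻¹) * (v * v * j * (v * v)⁻¹) := by rw [e.eq]
    _ = j⁻¹ * (v * v * j * (v * v)⁻¹) := by group

theorem eq_one_of_lift_fix {W : D} (hB : c.g W ∈ normalizer (c.B : Set Y)) {j : X} (hj : j ∈ c.A)
    (hW : c.f W = j * (c.f y * j * (c.f y)⁻¹))
    (hc2 : IsTwoElem (j⁻¹ * (c.f (y * y) * j * (c.f (y * y))⁻¹))) :
    j⁻¹ * (c.f (y * y) * j * (c.f (y * y))⁻¹) = 1 := by
  by_contra hne
  have hcA : j⁻¹ * (c.f (y * y) * j * (c.f (y * y))⁻¹) ∈ c.A :=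
    mul_mem (inv_mem hj) ((mem_normalizer_iff.1 hy.sqfix j).1 hj)
  have hfe := hy.comm_val hj hW
  generalize j⁻¹ * (c.f (y * y) * j * (c.f (y * y))⁻¹) = C at *
  have hge : c.g (W⁻¹ * y * W * y⁻¹) ∈ c.B := by
    rw [map_mul, map_mul, map_mul, map_inv, map_inv]
    exact mul_mem ((mem_normalizer_iff''.1 hB _).1 hy.mem) (inv_mem hy.mem)
  obtain ⟨m, hm, he2⟩ := exists_two_part (W⁻¹ * y * W * y⁻¹)
  have h1 : C ^ m ≠ 1 := fun e => hne (Subgroup.mem_bot.1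
    (mem_of_odd_pow (S := ⊥) hc2 hm (Subgroup.mem_bot.2 e)))
  obtain ⟨d, hd, hdB, hdf⟩ : ∃ d, IsTwoElem d ∧ c.g d ∈ c.B ∧ c.f d = c.f c.z := by
    rcases em (C ^ m * C ^ m = 1) with h | h
    · rcases c.legA.invol _ (pow_mem hcA m) h with e | e
      · exact absurd e h1
      · exact ⟨_, he2, by rw [map_pow]; exact pow_mem hge m, by rw [map_pow, hfe, e]⟩
    · obtain ⟨k, hk⟩ := c.legA.exists_four (pow_mem hcA m) (hc2.pow m) h1
        (fun e => h (by rw [e]; exact c.legA.sq))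
      refine ⟨((W⁻¹ * y * W * y⁻¹) ^ m) ^ 2 ^ k * ((W⁻¹ * y * W * y⁻¹) ^ m) ^ 2 ^ k,
        (he2.pow _).mul (he2.pow _) (Commute.refl _), ?_, ?_⟩
      · rw [map_mul, map_pow, map_pow]
        exact mul_mem (pow_mem (pow_mem hge _) _) (pow_mem (pow_mem hge _) _)
      · rw [map_mul, map_pow, map_pow, hfe, hk]
  have hdz : d = c.z := c.f_inj hd c.z_two (c.zc d).symm hdf
  rw [hdz] at hdB
  exact (Ctx.ft_not_mem c.symm) hdB

/-- An element of the lift commuting with the square fixes `B`, unless the square is `t`. -/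
theorem lift_fixes (hyt : y * y ≠ c.t) {W : D} (hW : Commute (c.f (y * y)) (c.f W)) :
    c.g W ∈ normalizer (c.B : Set Y) := by
  have hk : c.f (W⁻¹ * (y * y) * W * (y * y)⁻¹) = 1 := by
    rw [map_mul, map_mul, map_mul, map_inv, map_inv, mul_assoc (c.f W)⁻¹, hW.eq, inv_mul_cancel_left,
      mul_inv_cancel]
  have h2 : IsTwoElem (y * y) := hy.two.mul hy.two (Commute.refl y)
  have := c.legB.fix_of_odd (v := (c.g W)⁻¹) (b := c.g (y * y))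
    (n := c.g (W⁻¹ * (y * y) * W * (y * y)⁻¹)) (by rw [map_mul]; exact mul_mem hy.mem hy.mem)
    (h2.map c.g) (by rw [map_mul]; exact hy.gy_ne)
    (fun e => hyt (c.g_inj h2 c.t_two (c.tc _).symm e))
    ((odd_orderOf_of_mem c.kerf (MonoidHom.mem_ker.2 hk)).of_dvd_nat (orderOf_map_dvd c.g _))
    (by simp only [map_mul, map_inv]; group)
  simpa using inv_mem this

theorem small {j : X} (hj : j ∈ c.A) (h2 : IsTwoElem j)
    (hT : c.f c.t * j * (c.f c.t)⁻¹ = j ∨ c.f c.t * j * (c.f c.t)⁻¹ = j * c.f c.z)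
    (hc2 : IsTwoElem (j⁻¹ * (c.f (y * y) * j * (c.f (y * y))⁻¹))) :
    (j⁻¹ * (c.f (y * y) * j * (c.f (y * y))⁻¹) = 1 ∨
      j⁻¹ * (c.f (y * y) * j * (c.f (y * y))⁻¹) = c.f c.z) ∧
    (y * y ≠ c.t → j⁻¹ * (c.f (y * y) * j * (c.f (y * y))⁻¹) = 1) := by
  obtain ⟨W, -, hW⟩ := c.lift2 (pair_fixed c.legA (c.ft_comm y) hT).symm (hy.pair_two hj h2)
  by_cases hB : c.g W ∈ normalizer (c.B : Set Y)
  · have := hy.eq_one_of_lift_fix hB hj hW hc2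
    exact ⟨Or.inl this, fun _ => this⟩
  have hsmall : j⁻¹ * (c.f (y * y) * j * (c.f (y * y))⁻¹) = 1 ∨
      j⁻¹ * (c.f (y * y) * j * (c.f (y * y))⁻¹) = c.f c.z := by
    by_contra h
    rw [not_or] at h
    refine hy.moves ?_
    have hker : c.g (y * (W⁻¹ * y * W * y⁻¹) * y⁻¹ * (W⁻¹ * y * W * y⁻¹)⁻¹) = 1 := by
      have hv : (c.g W)⁻¹ ∉ normalizer (c.B : Set Y) := fun e => hB (by simpa using inv_mem e)
      have hc := c.legB.commute_of_moved hv hy.mem hy.mem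
      rw [inv_inv] at hc
      simp only [map_mul, map_inv]
      generalize c.g y = b, c.g W = v at hc ⊢
      calc b * (v⁻¹ * b * v * b⁻¹) * b⁻¹ * (v⁻¹ * b * v * b⁻¹)⁻¹
          = (b * (v⁻¹ * b * v)) * b⁻¹ * (v⁻¹ * b * v)⁻¹ := by group
        _ = 1 := by rw [hc.eq]; group
    refine c.legA.fix_of_odd (mul_mem (inv_mem hj) ((mem_normalizer_iff.1 hy.sqfix j).1 hj)) hc2 h.1 h.2
      ((odd_orderOf_of_mem c.kerg (MonoidHom.mem_ker.2 hker)).of_dvd_nat (orderOf_map_dvd c.f _)) ?_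
    rw [← hy.comm_val hj hW]
    simp only [map_mul, map_inv]
    group
  refine ⟨hsmall, fun hyt => hsmall.resolve_right fun e => hB (hy.lift_fixes hyt ?_)⟩
  rw [hW]
  refine pair_fixed c.legA (by rw [map_mul]; exact (Commute.refl _).mul_left (Commute.refl _)) (Or.inr ?_)
  exact inv_mul_eq_iff_eq_mul.1 e

theorem fixed_lift {j : X} (hj : j ∈ c.A) (hjz : j * j = c.f c.z) {W : D} (hW : c.f W = j)
    (hB : c.g W ∈ normalizer (c.B : Set Y)) :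
    ∀ a ∈ c.A, c.f c.t * a * (c.f c.t)⁻¹ = j⁻¹ * a * j := by
  obtain ⟨hj1, hjne⟩ := c.legA.ne_of_sq hjz
  have hfe : c.f (W⁻¹ * y * W * y⁻¹) = j⁻¹ * (c.f y * j * (c.f y)⁻¹) := by
    simp only [map_mul, map_inv, hW, mul_assoc]
  obtain ⟨F, hF⟩ : ∃ F, F = j⁻¹ * (c.f y * j * (c.f y)⁻¹) := ⟨_, rfl⟩
  have hFF : F * F = 1 := by
    rw [hF]
    have hc := (hy.comm (inv_mem hj) hj).eq
    rw [mul_assoc, ← mul_assoc (c.f y * j * (c.f y)⁻¹), ← hc, mul_assoc, ← mul_assoc j⁻¹ j⁻¹,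
      ← mul_inv_rev, hjz, c.legA.inv_z,
      show c.f y * j * (c.f y)⁻¹ * (c.f y * j * (c.f y)⁻¹) = c.f y * (j * j) * (c.f y)⁻¹ by group,
      hjz, ← (c.legA.cen (c.f y)).eq, mul_inv_cancel_right, c.legA.sq]
  have hF1 : F ≠ 1 := fun e => by
    rw [hF, inv_mul_eq_one] at e
    rcases c.legA.eq_of_mem_both hy.moves hj (e ▸ conj_mem_cj hj) with h | h
    · exact hj1 h
    · exact hjne h
  have hge : c.g (W⁻¹ * y * W * y⁻¹) ∈ c.B := by
    simp only [map_mul, map_inv]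
    exact mul_mem ((mem_normalizer_iff''.1 hB _).1 hy.mem) (inv_mem hy.mem)
  obtain ⟨m, hm, he2⟩ := exists_two_part (W⁻¹ * y * W * y⁻¹)
  have hfm : c.f ((W⁻¹ * y * W * y⁻¹) ^ m) = F := by
    obtain ⟨i, rfl⟩ := hm
    rw [map_pow, hfe, ← hF, pow_succ, pow_mul, pow_two, hFF, one_pow, one_mul]
  obtain ⟨E, hE⟩ : ∃ E, E = (W⁻¹ * y * W * y⁻¹) ^ m := ⟨_, rfl⟩
  rw [← hE] at he2 hfm
  have hgE : c.g E ∈ c.B := by rw [hE, map_pow]; exact pow_mem hge m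
  have hEE : E * E = 1 := c.fker_two (he2.mul he2 (Commute.refl E)) (by rw [map_mul, hfm, hFF])
  have hEt : E = c.t := by
    rcases c.legB.invol _ hgE (by rw [← map_mul, hEE, map_one]) with e | e
    · exact absurd (by rw [c.gker_two he2 e, map_one] at hfm; exact hfm.symm) hF1
    · exact c.g_inj he2 c.t_two (c.tc E).symm e
  intro a ha
  rw [← hEt, hfm, hF]
  have hc : Commute a (c.f y * j * (c.f y)⁻¹) := hy.comm ha hj
  generalize c.f y * j * (c.f y)⁻¹ = b at hc ⊢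
  calc j⁻¹ * b * a * (j⁻¹ * b)⁻¹ = j⁻¹ * (b * a) * b⁻¹ * j := by group
    _ = j⁻¹ * a * j := by rw [← hc.eq]; group

theorem moved_acts {W : D} (hB : c.g W ∉ normalizer (c.B : Set Y)) {b : Y} (hb : b ∈ c.B) :
    c.g (W⁻¹ * y * W * y⁻¹) * b * (c.g (W⁻¹ * y * W * y⁻¹))⁻¹ = (c.g y)⁻¹ * b * c.g y := by
  have hv : (c.g W)⁻¹ ∉ normalizer (c.B : Set Y) := fun e => hB (by simpa using inv_mem e)
  have hc := c.legB.commute_of_moved hv (mul_mem (mul_mem (inv_mem hy.mem) hb) hy.mem) hy.mem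
  rw [inv_inv] at hc
  simp only [map_mul, map_inv]
  generalize c.g y = a, c.g W = v at hc ⊢
  calc v⁻¹ * a * v * a⁻¹ * b * (v⁻¹ * a * v * a⁻¹)⁻¹
      = (v⁻¹ * a * v) * (a⁻¹ * b * a) * (v⁻¹ * a * v)⁻¹ := by group
    _ = a⁻¹ * b * a := by rw [← hc.eq, mul_inv_cancel_right]

theorem t_invariant {Q : Subgroup X} (hQ : ∀ a ∈ Q, c.f (y * y) * a * (c.f (y * y))⁻¹ ∈ Q) :
    ∀ a ∈ Q, c.f c.t * a * c.f c.t ∈ Q := by
  obtain ⟨k, hk⟩ := hy.exists_pow_eq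
  have : ∀ n : ℕ, ∀ a ∈ Q, c.f (y * y) ^ n * a * (c.f (y * y) ^ n)⁻¹ ∈ Q := by
    intro n
    induction n with
    | zero => intro a ha; simpa using ha
    | succ n ih =>
      intro a ha
      have := hQ _ (ih a ha)
      rw [pow_succ']
      convert this using 1
      group
  intro a ha
  have := this (2 ^ k) a ha
  rwa [← map_pow, hk, c.ft_inv] at this

theorem sq_eq_t : y * y = c.t := by
  by_contra hyt
  have hTT := c.ft_sq
  obtain ⟨Q, p, q, hQ, hQβ⟩ := exists_qdata c.legA ((hy.two.mul hy.two (Commute.refl y)).map c.f) hy.sqfix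
  have hc2 : ∀ u ∈ Q, IsTwoElem (u⁻¹ * (c.f (y * y) * u * (c.f (y * y))⁻¹)) := fun u hu =>
    hQ.two _ (mul_mem (inv_mem hu) (hQβ u hu))
  have hfix : ∀ u ∈ Q, c.f c.t * u * c.f c.t = u := by
    by_contra hno
    push Not at hno
    obtain ⟨u, hu, hanti⟩ := c.legA.exists_anti hQ.le hQ.two hTT (hy.t_invariant hQβ) hno
    have h1 := (hy.small (hQ.le hu) (hQ.two u hu) (Or.inr (by rw [c.ft_inv]; exact hanti)) (hc2 u hu)).2 hyt
    rw [inv_mul_eq_one] at h1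
    obtain ⟨k, hk⟩ := hy.exists_pow_eq
    have hcom : Commute (c.f (y * y)) u := mul_inv_eq_iff_eq_mul.1 h1.symm
    have hcom' : Commute (c.f c.t) u := by rw [← hk, map_pow]; exact hcom.pow_left _
    rw [hcom'.eq, mul_assoc, hTT, mul_one] at hanti
    exact c.legA.ne (mul_eq_left.1 hanti.symm)
  have hp := hQ.p_mem
  have h1 := (hy.small (hQ.le hp) (hQ.two p hp) (Or.inl (by rw [c.ft_inv]; exact hfix p hp)) (hc2 p hp)).2 hyt
  rw [inv_mul_eq_one] at h1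
  obtain ⟨W, -, hW⟩ := c.lift2 (x := p) (show Commute p (c.f c.t) by
    show p * c.f c.t = c.f c.t * p
    conv_lhs => rw [← hfix p hp]
    rw [mul_assoc, hTT, mul_one]) (hQ.two p hp)
  have hq := hy.fixed_lift (hQ.le hp) hQ.pp hW
    (hy.lift_fixes hyt (by rw [hW]; exact mul_inv_eq_iff_eq_mul.1 h1.symm)) q (hQ.le hQ.q_mem)
  rw [c.ft_inv, hfix q hQ.q_mem] at hq
  have hcom : p * q = q * p := by
    conv_lhs => rw [hq]
    simp only [mul_assoc, mul_inv_cancel_left]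
  exact hQ.ne (by rw [← hQ.rel, ← hcom, mul_inv_cancel_right])

/-- The four-group case: `t` cannot fix a quaternion pair. -/
theorem not_fix_pair {p q : X} (hp : p ∈ c.A) (hq : q ∈ c.A) (hpp : p * p = c.f c.z)
    (hqq : q * q = c.f c.z) (hrel : q * p * q⁻¹ = p⁻¹) (hne : p⁻¹ ≠ p)
    (hTp : Commute (c.f c.t) p) (hTq : Commute (c.f c.t) q) : False := by
  have hyt := hy.sq_eq_t
  have hTT := c.ft_sq
  have hpz : p⁻¹ = p * c.f c.z := inv_eq_iff_mul_eq_one.2 (by rw [← mul_assoc, hpp, c.legA.sq])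
  have hrel' : q⁻¹ * p * q = p⁻¹ := by
    have e : q⁻¹ * p⁻¹ * q = p := by rw [← hrel]; group
    calc q⁻¹ * p * q = (q⁻¹ * p⁻¹ * q)⁻¹ := by group
      _ = p⁻¹ := by rw [e]
  have hrr : (p * q) * (p * q) = c.f c.z := by
    calc (p * q) * (p * q) = p * (q * p * q⁻¹) * (q * q) := by group
      _ = c.f c.z := by rw [hrel, mul_inv_cancel, one_mul, hqq]
  have kill : ∀ j a : X, a ∈ c.A → Commute (c.f c.t) a → (∀ W, c.f W = j → j ∈ c.A → j * j = c.f c.z →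
      c.g W ∈ normalizer (c.B : Set Y) → j⁻¹ * a * j = a) := by
    intro j a ha hTa W hW hj hjz hB
    have := hy.fixed_lift hj hjz hW hB a ha
    rw [hTa.eq, mul_inv_cancel_right] at this
    exact this.symm
  obtain ⟨Wp, hWp2, hWp⟩ := c.lift2 hTp.symm (c.legA.two_of_sq hpp)
  obtain ⟨Wq, -, hWq⟩ := c.lift2 hTq.symm (c.legA.two_of_sq hqq)
  obtain ⟨Wr, -, hWr⟩ := c.lift2 (hTp.mul_right hTq).symm (c.legA.two_of_sq hrr)
  have hpq : q⁻¹ * p * q ≠ p := by rw [hrel']; exact hne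
  have hmp : c.g Wp ∉ normalizer (c.B : Set Y) := fun hB => hne (by
    have := kill p q hq hTq Wp hWp hp hpp hB
    calc p⁻¹ = q * p * q⁻¹ := hrel.symm
      _ = q * p * (p⁻¹ * q * p)⁻¹ := by rw [this]
      _ = q * (p * p⁻¹) * q⁻¹ * p := by group
      _ = p := by group)
  have hmq : c.g Wq ∉ normalizer (c.B : Set Y) := fun hB => hpq (kill q p hp hTp Wq hWq hq hqq hB)
  have hmr : c.g Wr ∉ normalizer (c.B : Set Y) := fun hB => hpq (by
    have := kill (p * q) p hp hTp Wr hWr (mul_mem hp hq) hrr hB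
    calc q⁻¹ * p * q = (p * q)⁻¹ * p * (p * q) := by group
      _ = p := this)
  obtain ⟨E, hE⟩ : ∃ E, E = (Wp⁻¹ * y * Wp * y⁻¹) * (Wq⁻¹ * y * Wq * y⁻¹) * (Wr⁻¹ * y * Wr * y⁻¹)⁻¹ := ⟨_, rfl⟩
  have hfE : c.f E = c.f c.z := by
    rw [hE]
    simp only [map_mul, map_inv, hWp, hWq, hWr]
    have hc : Commute (c.f y * p * (c.f y)⁻¹) q⁻¹ := (hy.comm (inv_mem hq) hp).symm
    generalize c.f y = v at hc ⊢
    calc p⁻¹ * v * p * v⁻¹ * (q⁻¹ * v * q * v⁻¹) * ((p * q)⁻¹ * v * (p * q) * v⁻¹)⁻¹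
        = p⁻¹ * ((v * p * v⁻¹) * q⁻¹) * (v * q * v⁻¹) * (v * (p * q)⁻¹ * v⁻¹) * (p * q) := by group
      _ = p⁻¹ * (q⁻¹ * p * q) := by rw [hc.eq]; group
      _ = c.f c.z := by rw [hrel', ← mul_inv_rev, hpp, c.legA.inv_z]
  have hgyB : ∀ b ∈ c.B, c.g y * b * (c.g y)⁻¹ ∈ c.B := fun b hb =>
    mul_mem (mul_mem hy.mem hb) (inv_mem hy.mem)
  have hgyB' : ∀ b ∈ c.B, (c.g y)⁻¹ * b * c.g y ∈ c.B := fun b hb =>
    mul_mem (mul_mem (inv_mem hy.mem) hb) hy.mem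
  have hEact : ∀ b ∈ c.B, c.g E * b * (c.g E)⁻¹ = (c.g y)⁻¹ * b * c.g y := by
    intro b hb
    rw [hE, map_mul, map_mul, map_inv]
    have h3 : (c.g (Wr⁻¹ * y * Wr * y⁻¹))⁻¹ * b * c.g (Wr⁻¹ * y * Wr * y⁻¹) = c.g y * b * (c.g y)⁻¹ := by
      have := hy.moved_acts hmr (hgyB b hb)
      rw [show (c.g y)⁻¹ * (c.g y * b * (c.g y)⁻¹) * c.g y = b by group] at this
      conv_lhs => rw [← this]
      group
    calc c.g (Wp⁻¹ * y * Wp * y⁻¹) * c.g (Wq⁻¹ * y * Wq * y⁻¹) * (c.g (Wr⁻¹ * y * Wr * y⁻¹))⁻¹ * b *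
          (c.g (Wp⁻¹ * y * Wp * y⁻¹) * c.g (Wq⁻¹ * y * Wq * y⁻¹) * (c.g (Wr⁻¹ * y * Wr * y⁻¹))⁻¹)⁻¹
        = c.g (Wp⁻¹ * y * Wp * y⁻¹) * (c.g (Wq⁻¹ * y * Wq * y⁻¹) *
            ((c.g (Wr⁻¹ * y * Wr * y⁻¹))⁻¹ * b * c.g (Wr⁻¹ * y * Wr * y⁻¹)) *
            (c.g (Wq⁻¹ * y * Wq * y⁻¹))⁻¹) * (c.g (Wp⁻¹ * y * Wp * y⁻¹))⁻¹ := by group
      _ = (c.g y)⁻¹ * ((c.g y)⁻¹ * (c.g y * b * (c.g y)⁻¹) * c.g y) * c.g y := by
          rw [h3, hy.moved_acts hmq (hgyB b hb), hy.moved_acts hmp (hgyB' _ (hgyB b hb))]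
      _ = (c.g y)⁻¹ * b * c.g y := by group
  obtain ⟨κ, hκ, hκE⟩ : ∃ κ ∈ c.f.ker, c.z * κ = E :=
    ⟨c.z⁻¹ * E, MonoidHom.mem_ker.2 (by rw [map_mul, map_inv, hfE, inv_mul_cancel]), mul_inv_cancel_left _ _⟩
  have hκodd : Odd (orderOf (c.g κ)) :=
    (odd_orderOf_of_mem c.kerf hκ).of_dvd_nat (orderOf_map_dvd c.g κ)
  have hzκ : Commute (c.g c.z) (c.g κ) := (c.zc κ).map c.g
  have hzz : c.g c.z * c.g c.z = 1 := by rw [← map_mul, c.zz, map_one]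
  have hEN : c.g E ∈ normalizer (c.B : Set Y) := by
    refine Subgroup.mem_normalizer_fintype fun b hb => ?_
    rw [hEact b hb]
    exact hgyB' b hb
  have hzN : c.g c.z ∈ normalizer (c.B : Set Y) := by
    obtain ⟨i, hi⟩ := hκodd
    have := pow_mem hEN (2 * i + 1)
    rw [← hκE, map_mul, hzκ.mul_pow, pow_succ (c.g c.z), pow_mul, pow_two, hzz, one_pow, one_mul, ← hi,
      pow_orderOf_eq_one, mul_one] at this
    exact this
  have hzact : ∀ b ∈ c.B, c.g c.z * b * (c.g c.z)⁻¹ = (c.g y)⁻¹ * b * c.g y := by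
    intro b hb
    have := odd_part_acts (s := (c.g y)⁻¹) hzκ ((c.zc y).map c.g).inv_right hzz hκodd hzN (inv_mem hy.mem)
      (fun a _ => ?_) (fun a ha => ?_) b hb
    · rwa [inv_inv] at this
    · rw [← mul_inv_rev, ← map_mul, hyt, c.legB.inv_z]
      exact c.legB.cen a
    · rw [← map_mul, hκE, hEact a ha, inv_inv]
  obtain ⟨x, hx, -, -, hxx, hxy, -, -⟩ := c.legB.four (c.g y) hy.mem (by rw [← map_mul, hyt])
  have hzx : c.g c.z * x * (c.g c.z)⁻¹ = x * c.g c.t := by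
    have h' : x * c.g y = (c.g y)⁻¹ * x := by rw [← hxy]; group
    rw [hzact x hx, mul_assoc, h', ← mul_assoc, ← mul_inv_rev, ← map_mul, hyt, c.legB.inv_z]
    exact c.legB.cen x
  have hv2 : c.g Wp * c.g Wp = c.g c.z := by
    rw [← map_mul, c.f_inj (hWp2.mul hWp2 (Commute.refl _)) c.z_two (c.zc _).symm
      (by rw [map_mul, hWp, hpp])]
  obtain ⟨X', hX'⟩ : ∃ X', X' = x * (c.g Wp * x * (c.g Wp)⁻¹) := ⟨_, rfl⟩
  have hzv : Commute (c.g c.z) (c.g Wp) := (c.zc Wp).map c.g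
  have hX'2 : IsTwoElem X' := hX' ▸ (c.legB.two_of_sq hxx).mul ((c.legB.two_of_sq hxx).conj _)
    (c.legB.commute_of_moved hmp hx hx)
  obtain ⟨X₁, -, hX₁⟩ := c.symm.lift2 (x := X') (show Commute X' (c.g c.z) from
    hX' ▸ (pair_fixed c.legB hzv (Or.inr hzx)).symm) hX'2
  replace hX₁ : c.g X₁ = X' := hX₁
  have hker : c.g ((X₁ * c.t)⁻¹ * (Wp * X₁ * Wp⁻¹)) = 1 := by
    simp only [map_mul, map_inv, hX₁]
    rw [inv_mul_eq_one, hX']
    have hc : Commute x (c.g Wp * x * (c.g Wp)⁻¹) := c.legB.commute_of_moved hmp hx hx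
    calc x * (c.g Wp * x * (c.g Wp)⁻¹) * c.g c.t
        = (c.g Wp * x * (c.g Wp)⁻¹) * x * c.g c.t := by rw [hc.eq]
      _ = (c.g Wp * x * (c.g Wp)⁻¹) * ((c.g Wp * c.g Wp) * x * (c.g Wp * c.g Wp)⁻¹) := by
          rw [hv2, hzx]; simp only [mul_assoc]
      _ = c.g Wp * (x * (c.g Wp * x * (c.g Wp)⁻¹)) * (c.g Wp)⁻¹ := by group
  have htw := twist c.legA (X₁ := c.f X₁) (u := c.f c.t) (k := c.f ((X₁ * c.t)⁻¹ * (Wp * X₁ * Wp⁻¹)))
    hp hpp hTT (c.ft_comm _) hTp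
    ((odd_orderOf_of_mem c.kerg (MonoidHom.mem_ker.2 hker)).of_dvd_nat (orderOf_map_dvd c.f _))
    hy.t_fix c.ft_not_mem (by
      simp only [map_mul, map_inv, hWp]
      have hT1 : c.f c.t * (c.f c.t)⁻¹ = 1 := mul_inv_cancel _
      calc (c.f X₁)⁻¹ * p * c.f X₁
          = (c.f X₁)⁻¹ * (p * c.f X₁ * p⁻¹) * p := by group
        _ = c.f c.t * ((c.f X₁ * c.f c.t)⁻¹ * (p * c.f X₁ * p⁻¹)) * p := by
            rw [mul_inv_rev, ← mul_assoc (c.f c.t), ← mul_assoc (c.f c.t), hT1, one_mul])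
  have hq' := htw.2 q hq
  rw [hTq.eq, mul_inv_cancel_right] at hq'
  apply hne
  rw [← hrel]
  calc q * p * q⁻¹ = q * p * (p⁻¹ * q * p)⁻¹ := by rw [← hq']
    _ = p := by group

end Moved

end CfsgLib.TwinComp
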