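import Cfsg.Agent.TwinComp.Trick
import Cfsg.Agent.Solvable.Fitting

/-!
Auxiliary facts: the invariant Sylow subgroup of `A`, odd factors acting trivially, twists.
-/

set_option autoImplicit false
set_option linter.unusedSectionVars false
set_option linter.style.haveILetI false

namespace CfsgLib.TwinComp

open Subgroup

variable {X : Type*} [Group X] [Finite X] {A : Subgroup X} {z : X}

/-- A factor of odd order commuting with an involution does not change an involutory action. -/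
theorem odd_part_acts {u k s : X} (huk : Commute u k) (hus : Commute u s) (hu : u * u = 1)
    (hk : Odd (orderOf k)) (huA : u ∈ normalizer (A : Set X)) (hsA : s ∈ A)
    (hss : ∀ a ∈ A, Commute (s * s) a) (h : ∀ a ∈ A, u * k * a * (u * k)⁻¹ = s * a * s⁻¹) :
    ∀ a ∈ A, u * a * u⁻¹ = s * a * s⁻¹ := by
  have hui : u⁻¹ = u := inv_eq_of_mul_eq_one_right hu
  have hk1 : ∀ a ∈ A, k * a * k⁻¹ = u * (s * a * s⁻¹) * u := fun a ha => by
    rw [← h a ha, mul_inv_rev, hui]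
    simp only [mul_assoc]
    rw [hu, mul_one, ← mul_assoc u u, hu, one_mul]
  have hmem : ∀ a ∈ A, u * (s * a * s⁻¹) * u ∈ A := fun a ha => by
    have := (mem_normalizer_iff.1 huA (s * a * s⁻¹)).1 (mul_mem (mul_mem hsA ha) (inv_mem hsA))
    rwa [hui] at this
  have hk2 : ∀ a ∈ A, k ^ 2 * a * (k ^ 2)⁻¹ = a := fun a ha => by
    rw [pow_two, mul_inv_rev,
      show k * k * a * (k⁻¹ * k⁻¹) = k * (k * a * k⁻¹) * k⁻¹ by simp only [mul_assoc],
      hk1 a ha, hk1 _ (hmem a ha)]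
    calc u * (s * (u * (s * a * s⁻¹) * u) * s⁻¹) * u
        = u * ((s * u) * (s * a * s⁻¹) * (u * s⁻¹)) * u := by simp only [mul_assoc]
      _ = u * ((u * s) * (s * a * s⁻¹) * (s⁻¹ * u)) * u := by rw [hus.eq, (hus.inv_right).eq]
      _ = (u * u) * ((s * s) * a * (s * s)⁻¹) * (u * u) := by rw [mul_inv_rev]; simp only [mul_assoc]
      _ = a := by rw [(hss a ha).eq, mul_inv_cancel_right, hu, one_mul, mul_one]
  intro a ha
  have hka : k * a * k⁻¹ = a := by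
    obtain ⟨j, hj⟩ := hk
    have e : k = (k ^ 2) ^ (j + 1) := by
      rw [← pow_mul, show 2 * (j + 1) = (2 * j + 1) + 1 by ring, pow_succ, ← hj, pow_orderOf_eq_one, one_mul]
    have hc : Commute ((k ^ 2) ^ (j + 1)) a :=
      Commute.pow_left (show k ^ 2 * a = a * k ^ 2 by
        conv_rhs => rw [← hk2 a ha]
        rw [inv_mul_cancel_right]) _
    rw [← e] at hc
    rw [hc.eq, mul_inv_cancel_right]
  rw [hk1 a ha] at hka
  calc u * a * u⁻¹ = u * (u * (s * a * s⁻¹) * u) * u⁻¹ := by rw [hka]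
    _ = s * a * s⁻¹ := by rw [hui]; simp only [mul_assoc]; rw [hu, mul_one, ← mul_assoc u u, hu, one_mul]

/-- If `X₁⁻¹ w X₁ = u k w` then `X₁` moves `A` and `u` acts on `A` as `w`. -/
theorem twist (hA : Leg A z) {X₁ w u k : X} (hw : w ∈ A) (hwz : w * w = z) (hu : u * u = 1)
    (huk : Commute u k) (huw : Commute u w) (hk : Odd (orderOf k)) (huA : u ∈ normalizer (A : Set X))
    (hun : u ∉ A) (h : X₁⁻¹ * w * X₁ = u * k * w) :
    X₁ ∉ normalizer (A : Set X) ∧ ∀ a ∈ A, u * a * u⁻¹ = w⁻¹ * a * w := by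
  have hX : X₁ ∉ normalizer (A : Set X) := by
    intro hX
    have h1 : X₁⁻¹ * w * X₁ ∈ A := (mem_normalizer_iff''.1 hX w).1 hw
    rw [h] at h1
    have h2 : u * k ∈ A := by
      have := mul_mem h1 (inv_mem hw)
      rwa [mul_inv_cancel_right] at this
    apply hun
    have h3 := pow_mem h2 (orderOf k)
    rw [huk.mul_pow, pow_orderOf_eq_one, mul_one] at h3
    obtain ⟨j, hj⟩ := hk
    rwa [hj, pow_succ, pow_mul, pow_two, hu, one_pow, one_mul] at h3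
  refine ⟨hX, fun a ha => ?_⟩
  have key := odd_part_acts (s := w⁻¹) huk huw.inv_right hu hk huA (inv_mem hw) (fun b hb => ?_) ?_ a ha
  · rwa [inv_inv] at key
  · rw [← mul_inv_rev, hwz, hA.inv_z]
    exact hA.cen b
  · intro b hb
    have hXi : X₁⁻¹ ∉ normalizer (A : Set X) := fun e => hX (by simpa using inv_mem e)
    have hb' : w⁻¹ * b * w ∈ A := mul_mem (mul_mem (inv_mem hw) hb) hw
    have hc : Commute (w⁻¹ * b * w) (u * k * w) := by
      rw [← h]; simpa using hA.commute_of_moved hXi hb' hw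
    rw [inv_inv]
    calc u * k * b * (u * k)⁻¹ = (u * k * w) * (w⁻¹ * b * w) * (u * k * w)⁻¹ := by
          rw [mul_inv_rev (u * k) w]; simp only [mul_assoc, mul_inv_cancel_left]
      _ = w⁻¹ * b * w := by rw [← hc.eq, mul_inv_cancel_right]

/-- The invariant Sylow subgroup with a quaternion pair inside. -/
structure QData (A : Subgroup X) (z : X) (Q : Subgroup X) (p q : X) : Prop where
  le : Q ≤ A
  two : ∀ a ∈ Q, IsTwoElem a
  p_mem : p ∈ Q
  q_mem : q ∈ Q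
  pp : p * p = z
  qq : q * q = z
  rel : q * p * q⁻¹ = p⁻¹
  ne : p⁻¹ ≠ p

theorem QData.noncentral {Q : Subgroup X} {p q : X} (hQ : QData A z Q p q) (hA : Leg A z) {w : X} (hw : w ∈ Q)
    (hwz : w * w = z) : ∃ a ∈ Q, w⁻¹ * a * w ≠ a := by
  by_contra hno
  push Not at hno
  have hc : ∀ a ∈ Q, Commute w a := fun a ha => by
    show w * a = a * w
    conv_lhs => rw [← hno a ha]
    simp only [mul_assoc, mul_inv_cancel_left]
  have key : ∀ a ∈ Q, a * a = z → Commute a w ∧ (a = w ∨ a = w * z) := fun a ha haz => by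
    refine ⟨(hc a ha).symm, ?_⟩
    have h1 : (w⁻¹ * a) * (w⁻¹ * a) = 1 := by
      rw [← pow_two, ((hc a ha).inv_left).mul_pow, pow_two, pow_two, haz, ← mul_inv_rev, hwz,
        inv_mul_cancel]
    rcases hA.invol _ (mul_mem (inv_mem (hQ.le hw)) (hQ.le ha)) h1 with e | e
    · exact Or.inl (inv_mul_eq_one.1 e).symm
    · exact Or.inr (inv_mul_eq_iff_eq_mul.1 e)
  have hcom : Commute q p := by
    rcases (key q hQ.q_mem hQ.qq).2 with e | e <;> rw [e]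
    · exact hc p hQ.p_mem
    · exact (hc p hQ.p_mem).mul_left (hA.cen p)
  exact hQ.ne (by rw [← hQ.rel, hcom.eq, mul_inv_cancel_right])

theorem isPGroup_zpowers {a : X} (h : IsTwoElem a) : IsPGroup 2 (zpowers a) := by
  obtain ⟨k, hk⟩ := h
  rintro ⟨x, hx⟩
  obtain ⟨i, rfl⟩ := mem_zpowers_iff.1 hx
  exact ⟨k, Subtype.ext (by
    rw [SubmonoidClass.coe_pow, OneMemClass.coe_one, ← zpow_natCast, ← zpow_mul, mul_comm, zpow_mul,
      zpow_natCast, hk, one_zpow])⟩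

theorem exists_qdata (hA : Leg A z) {β : X} (hβ : IsTwoElem β) (hβA : β ∈ normalizer (A : Set X)) :
    ∃ (Q : Subgroup X) (p q : X), QData A z Q p q ∧ ∀ a ∈ Q, β * a * β⁻¹ ∈ Q := by
  haveI : Fact (Nat.Prime 2) := ⟨Nat.prime_two⟩
  obtain ⟨p₀, hp₀, hp₀z⟩ := hA.exists_sq
  obtain ⟨q₀, hq₀, hq₀z, hrel, hne⟩ := hA.not_commute hp₀ hp₀z
  have hPG : IsPGroup 2 ↥(zpowers p₀ ⊔ zpowers q₀) := by
    refine IsPGroup.to_sup_of_normal_left' (isPGroup_zpowers (hA.two_of_sq hp₀z))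
      (isPGroup_zpowers (hA.two_of_sq hq₀z)) ?_
    rw [zpowers_le]
    refine mem_normalizer_iff_map_conj_eq.2 ?_
    rw [MonoidHom.map_zpowers]
    show zpowers (q₀ * p₀ * q₀⁻¹) = zpowers p₀
    rw [hrel, zpowers_inv]
  set M : Subgroup X := A ⊔ zpowers β with hM
  have hMA : M ≤ normalizer (A : Set X) := sup_le le_normalizer (zpowers_le.2 hβA)
  have hβM : β ∈ M := mem_sup_right (mem_zpowers β)
  obtain ⟨P, hP⟩ := ((isPGroup_zpowers hβ).of_equiv
    (subgroupOfEquivOfLe (zpowers_le.2 hβM : zpowers β ≤ M)).symm).exists_le_sylow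
  have hPQ : zpowers p₀ ⊔ zpowers q₀ ≤ M :=
    (sup_le (zpowers_le.2 hp₀) (zpowers_le.2 hq₀)).trans le_sup_left
  obtain ⟨P', hP'⟩ := (hPG.of_equiv (subgroupOfEquivOfLe hPQ).symm).exists_le_sylow
  obtain ⟨m, hm⟩ := MulAction.exists_smul_eq M P' P
  have hin : ∀ a ∈ zpowers p₀ ⊔ zpowers q₀, (m : X) * a * (m : X)⁻¹ ∈ (P : Subgroup M).map M.subtype := by
    intro a ha
    refine ⟨m * ⟨a, hPQ ha⟩ * m⁻¹, ?_, rfl⟩
    rw [← hm, Sylow.coe_subgroup_smul, SetLike.mem_coe, Subgroup.mem_pointwise_smul_iff_inv_smul_mem]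
    simpa [mul_assoc] using hP' (show (⟨a, hPQ ha⟩ : M) ∈ _ from ha)
  have hmA : ∀ a ∈ A, (m : X) * a * (m : X)⁻¹ ∈ A := fun a ha => (mem_normalizer_iff.1 (hMA m.2) a).1 ha
  refine ⟨(P : Subgroup M).map M.subtype ⊓ A, m * p₀ * (m : X)⁻¹, m * q₀ * (m : X)⁻¹,
    ⟨inf_le_right, fun a ha => ?_, ⟨hin _ (mem_sup_left (mem_zpowers _)), hmA _ hp₀⟩,
      ⟨hin _ (mem_sup_right (mem_zpowers _)), hmA _ hq₀⟩, ?_, ?_, ?_, ?_⟩, fun a ha => ?_⟩
  · obtain ⟨b, hb, rfl⟩ := ha.1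
    obtain ⟨k, hk⟩ := P.2 ⟨b, hb⟩
    exact ⟨k, congrArg (fun x : (P : Subgroup M) => ((x : M) : X)) hk⟩
  · calc (m : X) * p₀ * (m : X)⁻¹ * (m * p₀ * (m : X)⁻¹) = m * (p₀ * p₀) * (m : X)⁻¹ := by group
      _ = z := by rw [hp₀z, ← (hA.cen _).eq, mul_inv_cancel_right]
  · calc (m : X) * q₀ * (m : X)⁻¹ * (m * q₀ * (m : X)⁻¹) = m * (q₀ * q₀) * (m : X)⁻¹ := by group
      _ = z := by rw [hq₀z, ← (hA.cen _).eq, mul_inv_cancel_right]
  · calc (m : X) * q₀ * (m : X)⁻¹ * (m * p₀ * (m : X)⁻¹) * (m * q₀ * (m : X)⁻¹)⁻¹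
        = m * (q₀ * p₀ * q₀⁻¹) * (m : X)⁻¹ := by group
      _ = (m * p₀ * (m : X)⁻¹)⁻¹ := by rw [hrel]; group
  · intro e
    apply hne
    have e' : (m : X) * p₀⁻¹ * (m : X)⁻¹ = m * p₀ * (m : X)⁻¹ := by rw [← e]; group
    exact mul_left_cancel (mul_right_cancel e')
  · obtain ⟨b, hb, hbe⟩ := ha.1
    refine ⟨⟨⟨β, hβM⟩ * b * ⟨β, hβM⟩⁻¹, ?_, by rw [← hbe]; rfl⟩, (mem_normalizer_iff.1 hβA a).1 ha.2⟩
    have hβP : (⟨β, hβM⟩ : M) ∈ (P : Subgroup M) := hP (show (⟨β, hβM⟩ : M) ∈ _ from mem_zpowers β)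
    exact mul_mem (mul_mem hβP hb) (inv_mem hβP)

end CfsgLib.TwinComp
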