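import Cfsg.Agent.TwinComp.Ctx

/-!
No element of a component on the `t`-side moves `A` when `C(t)` contains a copy of `A` modulo its centre
whose translates by that element commute with it.
-/

set_option autoImplicit false
set_option linter.unusedSectionVars false
set_option linter.style.haveILetI false

namespace CfsgLib.TwinComp

open Subgroup
open scoped commutatorElement

section Small

variable {X : Type*} [Group X] [Finite X] {A : Subgroup X} {z : X}

theorem Leg.exists_sq (hA : Leg A z) : ∃ a ∈ A, a * a = z := by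
  by_contra hno
  push Not at hno
  have hA2 : ∀ a ∈ A, IsTwoElem a → a = 1 ∨ a = z := fun a ha h2 => by
    by_contra h'
    rw [not_or] at h'
    obtain ⟨k, hk⟩ := hA.exists_four ha h2 h'.1 h'.2
    exact hno _ (pow_mem ha _) hk
  have h8 : 2 ∣ Nat.card A := by
    have : orderOf (⟨z, hA.mem⟩ : A) = 2 := orderOf_eq_prime (Subtype.ext (by
      rw [SubmonoidClass.coe_pow, pow_two]; exact hA.sq)) (fun e => hA.ne (congrArg Subtype.val e))
    exact this ▸ orderOf_dvd_natCard _
  obtain ⟨P⟩ : Nonempty (Sylow 2 A) := inferInstance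
  have hPc : (P : Subgroup A) ≤ Subgroup.center A := fun a ha => by
    obtain ⟨k, hk⟩ := P.2 ⟨a, ha⟩
    rcases hA2 a a.2 ⟨k, congrArg (fun x : (P : Subgroup A) => ((x : A) : X)) hk⟩ with e | e
    · rw [show a = 1 from Subtype.ext e]; exact one_mem _
    · exact mem_center_iff.2 fun b => Subtype.ext (by
        show (b : X) * a = a * b; rw [e]; exact (hA.cen _).symm.eq)
  haveI : Fact (Nat.Prime 2) := ⟨Nat.prime_two⟩
  have hN : Subgroup.normalizer ((P : Subgroup A) : Set A) ≤ Subgroup.centralizer ((P : Subgroup A) : Set A) :=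
    fun b _ => mem_centralizer_iff.2 fun p hp => (mem_center_iff.1 (hPc hp) b).symm
  have hK := MonoidHom.ker_transferSylow_isComplement' P hN
  set N := (MonoidHom.transferSylow P hN).ker
  haveI : N.Normal := MonoidHom.normal_ker _
  rcases Comp.quasisimple_normal hA.comp.2 (inferInstance : N.Normal) with e | e
  · have hc := hK.card_mul_card
    rw [e, Subgroup.card_top] at hc
    have hP1 : Nat.card (P : Subgroup A) = 1 := by
      have := Nat.card_pos (α := A)
      exact Nat.eq_of_mul_eq_mul_left this (by rw [mul_one]; exact hc)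
    exact P.not_dvd_index (by
      rw [← Subgroup.card_mul_index (P : Subgroup A), hP1, one_mul] at h8; exact h8)
  · refine Comp.quasisimple_center_ne_top hA.comp.2 (top_le_iff.1 ?_)
    rw [← hK.sup_eq_top]
    exact sup_le e hPc

theorem Leg.not_commute (hA : Leg A z) {y : X} (hy : y ∈ A) (h : y * y = z) :
    ∃ x ∈ A, x * x = z ∧ x * y * x⁻¹ = y⁻¹ ∧ y⁻¹ ≠ y := by
  obtain ⟨x, hx, -, -, h1, h2, -, -⟩ := hA.four y hy h
  refine ⟨x, hx, h1, h2, fun e => hA.ne ?_⟩
  rw [← h]
  conv_lhs => arg 1; rw [← e]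
  exact inv_mul_cancel y

/-- A subgroup of index at most two of `A` is everything. -/
theorem Leg.big_subgroup (hA : Leg A z) {S : Subgroup X} (hS : S ≤ A) (h : Nat.card A ≤ 2 * Nat.card S) :
    S = A := by
  obtain ⟨y, hy, hyz⟩ := hA.exists_sq
  obtain ⟨x, hx, hxz, hxy, -⟩ := hA.not_commute hy hyz
  set S' := S.subgroupOf A with hS'
  have hcard : Nat.card S' = Nat.card S := Nat.card_congr (subgroupOfEquivOfLe hS).toEquiv
  have hmul := S'.card_mul_index
  rw [hcard] at hmul
  have hidx : S'.index ≤ 2 := by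
    by_contra h'
    have : 3 * Nat.card S ≤ Nat.card A := by rw [← hmul, mul_comm]; exact Nat.mul_le_mul_left _ (by omega)
    have := Nat.card_pos (α := S)
    omega
  have hnorm : S'.Normal := by
    rcases Nat.lt_or_ge S'.index 2 with h' | h'
    · have : S'.index = 1 := by have := S'.index_ne_zero_of_finite; omega
      rw [Subgroup.index_eq_one.1 this]; infer_instance
    · exact Subgroup.normal_of_index_eq_two (by omega)
  rcases Comp.quasisimple_normal hA.comp.2 hnorm with e | e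
  · exact le_antisymm hS (subgroupOf_eq_top.1 e)
  · exfalso
    have hle : ∀ a ∈ S, a = 1 ∨ a = z := fun a ha => hA.centre a (hS ha) fun b hb => by
      have := mem_center_iff.1 (e (show (⟨a, hS ha⟩ : A) ∈ S' from ha)) ⟨b, hb⟩
      exact (congrArg Subtype.val this).symm
    have hc2 : Nat.card S ≤ 2 := by
      classical
      haveI : Fintype X := Fintype.ofFinite X
      have : (S : Set X) ⊆ ({1, z} : Finset X) := fun a ha => by
        rcases hle a ha with e' | e' <;> simp [e']
      calc Nat.card S = (S : Set X).ncard := (Nat.card_coe_set_eq _)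
        _ ≤ (({1, z} : Finset X) : Set X).ncard := Set.ncard_le_ncard this (Finset.finite_toSet _)
        _ ≤ 2 := by rw [Set.ncard_coe_finset]; exact Finset.card_le_two
    -- A has more than four elements
    classical
    haveI : Fintype X := Fintype.ofFinite X
    have hsub : ((({1, z, y, y * z, x} : Finset X)) : Set X) ⊆ (A : Set X) := by
      intro a ha
      simp only [Finset.coe_insert, Finset.coe_singleton, Set.mem_insert_iff, Set.mem_singleton_iff] at ha
      rcases ha with rfl | rfl | rfl | rfl | rfl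
      exacts [one_mem _, hA.mem, hy, mul_mem hy hA.mem, hx]
    have h5 : (({1, z, y, y * z, x} : Finset X)).card = 5 := by
      obtain ⟨hy1, hy2⟩ := hA.ne_of_sq hyz
      obtain ⟨hx1, hx2⟩ := hA.ne_of_sq hxz
      obtain ⟨-, -, -, -, hyy⟩ := hA.not_commute hy hyz
      have hxy1 : x ≠ y := fun e' => by
        rw [e', mul_inv_cancel_right] at hxy; exact hyy hxy.symm
      have hxy2 : x ≠ y * z := fun e' => by
        rw [e', mul_assoc y z y, (hA.cen y).eq, mul_inv_rev, hA.inv_z] at hxy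
        apply hyy
        rw [← hxy]
        rw [show y * (y * z) * (z * y⁻¹) = y * y * (z * z) * y⁻¹ by simp only [mul_assoc], hA.sq, mul_one,
          mul_inv_cancel_right]
      have hyz1 : y * z ≠ 1 := fun e' => hy2 (by rw [mul_eq_one_iff_eq_inv.1 e', hA.inv_z])
      have hyz2 : y * z ≠ z := fun e' => hy1 (mul_eq_right.1 e')
      have hyz3 : y ≠ y * z := fun e' => hA.ne (mul_eq_left.1 e'.symm)
      simp [Finset.card_insert_of_notMem, hA.ne.symm, hy1.symm, hy2.symm, hx1.symm, hx2.symm, hyz1.symm,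
        hyz2.symm, hyz3, hxy1.symm, hxy2.symm]
    have : 5 ≤ Nat.card A := by
      rw [← h5, ← Set.ncard_coe_finset]
      exact le_of_le_of_eq (Set.ncard_le_ncard hsub (Set.toFinite _)) (Nat.card_coe_set_eq _).symm
    omega

end Small

variable {D X Y : Type*} [Group D] [Group X] [Group Y] [Finite D] [Finite X] [Finite Y] (c : Ctx D X Y)

theorem Ctx.no_diag (hAB : Nat.card c.A = Nat.card c.B) {y : D} (hy : c.g y ∈ c.B) (hy2 : IsTwoElem y)
    (δ : c.A →* X) (hker : ∀ a : c.A, δ a = 1 → (a : X) = 1 ∨ (a : X) = c.f c.z)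
    (hcomm : ∀ a, Commute (δ a) (c.f c.t)) (hdK : ∀ a, δ a ∈ compKer X)
    (hrel : ∀ a b, Commute (c.f y * δ a * (c.f y)⁻¹) (δ b) ∧ Commute (c.f y * δ a * (c.f y)⁻¹) (δ a)) :
    c.f y ∈ compKer X := by
  classical
  haveI := compKer_normal (X := X)
  haveI := compKer_normal (X := Y)
  haveI : Group.IsPerfect c.A := c.legA.comp.2.1
  set N0 : Subgroup D := (compKer Y).comap c.g with hN0
  haveI : N0.Normal := inferInstance
  have hyN : y ∈ N0 := component_le_compKer c.legB.comp hy
  set P : Subgroup D := δ.range.comap c.f with hP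
  have lift : ∀ a, ∃ p ∈ P, c.f p = δ a := fun a => by
    obtain ⟨p, hp⟩ := c.liftf (δ a) (hcomm a)
    exact ⟨p, show c.f p ∈ δ.range from hp ▸ ⟨a, rfl⟩, hp⟩
  -- the commutators of lifts
  have hval : ∀ a b : c.A, ∀ p q : D, c.f p = δ a → c.f q = δ b →
      c.f ⁅⁅p, y⁆, q⁆ = δ ⁅a, b⁆ := by
    intro a b p q hp hq
    rw [map_commutatorElement, map_commutatorElement, hp, hq, map_commutatorElement]
    obtain ⟨h1, h2⟩ := hrel a⁻¹ b
    rw [map_inv] at h2 h1
    have e : ⁅δ a, c.f y⁆ = δ a * (c.f y * (δ a)⁻¹ * (c.f y)⁻¹) := by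
      rw [commutatorElement_def]; simp only [mul_assoc]
    rw [e]
    generalize hw : c.f y * (δ a)⁻¹ * (c.f y)⁻¹ = w at h1 h2 ⊢
    rw [commutatorElement_def, commutatorElement_def, mul_inv_rev,
      show δ a * w * δ b * (w⁻¹ * (δ a)⁻¹) = δ a * (w * δ b * w⁻¹) * (δ a)⁻¹ by simp only [mul_assoc],
      h1.eq, mul_inv_cancel_right]
  have cover : ∀ R : Subgroup D, R ≤ P →
      (∀ a b : c.A, ∃ p q : D, c.f p = δ a ∧ c.f q = δ b ∧ ⁅⁅p, y⁆, q⁆ ∈ R) → ∀ a, ∃ r ∈ R, c.f r = δ a := by
    intro R hR h a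
    have : (⊤ : Subgroup c.A) ≤ (R.map c.f).comap δ := by
      rw [← Group.IsPerfect.commutator_eq_top (G := c.A), _root_.commutator_def, Subgroup.commutator_le]
      intro x _ y' _
      obtain ⟨p, q, hp, hq, hr⟩ := h x y'
      exact ⟨_, hr, hval x y' p q hp hq⟩
    exact this (mem_top a)
  have memP : ∀ a b : c.A, ∀ p q : D, c.f p = δ a → c.f q = δ b → ⁅⁅p, y⁆, q⁆ ∈ P := fun a b p q hp hq =>
    show c.f _ ∈ δ.range from hval a b p q hp hq ▸ ⟨_, rfl⟩
  -- first: the lifts that fix all components of the other side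
  have cov1 : ∀ a, ∃ r ∈ P ⊓ N0, c.f r = δ a := cover _ inf_le_left fun a b => by
    obtain ⟨p, -, hp⟩ := lift a
    obtain ⟨q, -, hq⟩ := lift b
    refine ⟨p, q, hp, hq, memP a b p q hp hq, ?_⟩
    have h1 : ⁅p, y⁆ ∈ N0 := by
      rw [commutatorElement_def]
      exact mul_mem ((inferInstance : N0.Normal).conj_mem y hyN p) (inv_mem hyN)
    rw [commutatorElement_def, show ⁅p, y⁆ * q * ⁅p, y⁆⁻¹ * q⁻¹ = ⁅p, y⁆ * (q * ⁅p, y⁆⁻¹ * q⁻¹) by
      simp only [mul_assoc]]
    exact mul_mem h1 ((inferInstance : N0.Normal).conj_mem _ (inv_mem h1) q)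
  -- second: inside the component
  set U : Subgroup D := P ⊓ c.B.comap c.g with hU
  have cov2 : ∀ a, ∃ r ∈ U, c.f r = δ a := cover _ inf_le_left fun a b => by
    obtain ⟨p, hp', hp⟩ := cov1 a
    obtain ⟨q, hq', hq⟩ := cov1 b
    refine ⟨p, q, hp, hq, memP a b p q hp hq, ?_⟩
    have hn : ∀ r : D, r ∈ P ⊓ N0 → ∀ d : D, c.g d ∈ c.B → c.g (r * d * r⁻¹) ∈ c.B := by
      intro r hr d hd
      have hrB : c.g r ∈ normalizer (c.B : Set Y) := mem_compKer.1 hr.2 _ c.legB.comp
      rw [map_mul, map_mul, map_inv]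
      exact (mem_normalizer_iff.1 hrB _).1 hd
    have h1 : c.g ⁅p, y⁆ ∈ c.B := by
      rw [commutatorElement_def, map_mul, map_inv]
      exact mul_mem (hn p hp' y hy) (inv_mem hy)
    show c.g ⁅⁅p, y⁆, q⁆ ∈ c.B
    rw [commutatorElement_def, show ⁅p, y⁆ * q * ⁅p, y⁆⁻¹ * q⁻¹ = ⁅p, y⁆ * (q * ⁅p, y⁆⁻¹ * q⁻¹) by
      simp only [mul_assoc], map_mul]
    exact mul_mem h1 (hn q hq' _ (by rw [map_inv]; exact inv_mem h1))
  -- the two quotients of `U`
  let φ : U →* X := c.f.comp U.subtype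
  let ψ : U →* Y := c.g.comp U.subtype
  have hφ : φ.range = δ.range := by
    refine le_antisymm ?_ ?_
    · rintro _ ⟨u, rfl⟩
      exact u.2.1
    · rintro _ ⟨a, rfl⟩
      obtain ⟨r, hr, e⟩ := cov2 a
      exact ⟨⟨r, hr⟩, e⟩
  have hkψ : ψ.ker ≤ φ.ker := by
    intro u hu
    let N := (ψ.ker.map φ).comap δ
    have hN : N.Normal := ⟨fun n hn a => by
      obtain ⟨v, hv, hve⟩ := hn
      obtain ⟨r, hr, hre⟩ := cov2 a
      refine ⟨(⟨r, hr⟩ : U) * v * (⟨r, hr⟩ : U)⁻¹, (inferInstance : ψ.ker.Normal).conj_mem v hv _, ?_⟩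
      rw [map_mul, map_mul, map_inv, map_mul, map_mul, map_inv, hve, show φ ⟨r, hr⟩ = δ a from hre]⟩
    have hodd : ∀ a ∈ N, Odd (orderOf (δ a)) := fun a ha => by
      obtain ⟨v, hv, hve⟩ := ha
      rw [← hve]
      refine (odd_orderOf_of_mem c.kerg (x := (v : D)) ?_).of_dvd_nat (orderOf_map_dvd c.f (v : D))
      exact MonoidHom.mem_ker.2 (MonoidHom.mem_ker.1 hv)
    obtain ⟨w, hw, hwz⟩ := c.legA.exists_sq
    have hsmall : ∀ a ∈ N, δ a = 1 := by
      intro a ha
      rcases Comp.quasisimple_normal c.legA.comp.2 hN with e | e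
      · exfalso
        have h1 := hodd ⟨w, hw⟩ (by rw [e]; exact mem_top _)
        have h2 : IsTwoElem (δ ⟨w, hw⟩) := IsTwoElem.map
          ⟨2, Subtype.ext (by
            rw [SubmonoidClass.coe_pow, OneMemClass.coe_one, show (2 : ℕ) ^ 2 = 2 * 2 by norm_num, pow_mul,
              pow_two w, hwz, pow_two, c.legA.sq])⟩ δ
        rcases hker _ (eq_one_of_two_of_odd h2 h1) with e' | e'
        · exact (c.legA.ne_of_sq hwz).1 e'
        · exact (c.legA.ne_of_sq hwz).2 e'
      · have hc := mem_center_iff.1 (e ha)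
        rcases c.legA.centre a a.2 (fun b hb => (congrArg Subtype.val (hc ⟨b, hb⟩)).symm) with e' | e'
        · rw [show a = 1 from Subtype.ext e', map_one]
        · refine eq_one_of_two_of_odd (IsTwoElem.map ⟨1, Subtype.ext ?_⟩ δ) (hodd a ha)
          rw [SubmonoidClass.coe_pow, OneMemClass.coe_one, pow_one, pow_two, e', c.legA.sq]
    obtain ⟨a, hae⟩ : φ u ∈ δ.range := hφ ▸ ⟨u, rfl⟩
    exact MonoidHom.mem_ker.2 (hae ▸ hsmall a ⟨u, hu, hae.symm⟩)
  have hbig : Nat.card c.A ≤ 2 * Nat.card ψ.range := by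
    have h1 : Nat.card φ.range ≤ Nat.card ψ.range := by
      rw [← Subgroup.index_ker, ← Subgroup.index_ker]
      exact Nat.le_of_dvd (Nat.pos_of_ne_zero Subgroup.index_ne_zero_of_finite) (Subgroup.index_dvd_of_le hkψ)
    have h2 : Nat.card δ.ker ≤ 2 := by
      haveI : Fintype X := Fintype.ofFinite X
      calc Nat.card δ.ker = Nat.card (δ.ker.map c.A.subtype) :=
            (card_map_of_injective c.A.subtype_injective).symm
        _ = ((δ.ker.map c.A.subtype : Subgroup X) : Set X).ncard := Nat.card_coe_set_eq _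
        _ ≤ (({1, c.f c.z} : Finset X) : Set X).ncard := by
          refine Set.ncard_le_ncard ?_ (Finset.finite_toSet _)
          rintro _ ⟨a, ha, rfl⟩
          rcases hker a ha with e | e <;> simp [e]
        _ ≤ 2 := by rw [Set.ncard_coe_finset]; exact Finset.card_le_two
    rw [hφ] at h1
    calc Nat.card c.A = Nat.card δ.ker * δ.ker.index := (Subgroup.card_mul_index _).symm
      _ ≤ 2 * Nat.card δ.range := by rw [Subgroup.index_ker]; exact Nat.mul_le_mul_right _ h2
      _ ≤ _ := Nat.mul_le_mul_left _ h1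
  have hall : ψ.range = c.B := c.legB.big_subgroup (by rintro _ ⟨u, rfl⟩; exact u.2.2) (hAB ▸ hbig)
  obtain ⟨y', hy'⟩ : c.g y ∈ ψ.range := hall ▸ hy
  -- compare `y` with `y'`
  obtain ⟨a, ha⟩ := y'.2.1
  have hk : c.g ((y' : D)⁻¹ * y) = 1 := by
    rw [map_mul, map_inv, show c.g (y' : D) = c.g y from hy', inv_mul_cancel]
  have hπ : QuotientGroup.mk' (compKer X) (c.f y) =
      QuotientGroup.mk' (compKer X) (c.f ((y' : D)⁻¹ * y)) := by
    have h0 : QuotientGroup.mk' (compKer X) (c.f (y' : D)) = 1 :=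
      (QuotientGroup.eq_one_iff _).2 (ha ▸ hdK a)
    conv_lhs => rw [show y = (y' : D) * ((y' : D)⁻¹ * y) by rw [mul_inv_cancel_left]]
    rw [map_mul, map_mul, h0, one_mul]
  refine (QuotientGroup.eq_one_iff _).1 (eq_one_of_two_of_odd ((hy2.map c.f).map (QuotientGroup.mk' (compKer X))) ?_)
  show Odd (orderOf (QuotientGroup.mk' (compKer X) (c.f y)))
  rw [hπ]
  exact (odd_orderOf_of_mem c.kerg (MonoidHom.mem_ker.2 hk)).of_dvd_nat
    ((orderOf_map_dvd _ _).trans (orderOf_map_dvd c.f _))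

end CfsgLib.TwinComp
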